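import Cfsg.Agent.H209.EPX.Defs_m3
import Cfsg.Agent.H406.IF.PSUEven_mg_m3
import Cfsg.Agent.H763.Co3.Fin
import Cfsg.Agent.KFacts.Co3.Out
import Cfsg.Agent.H956.IF.Central
import Mathlib
import Cfsg.Agent.KFacts.FiTF.QuasiBInst_mg_m3
import Cfsg.Agent.OddHalf.D4.Spor.FiTF_m3
import Cfsg.Agent.H30.IF.Frob_m3
import Cfsg.Agent.KFacts.FiTF.FixZ_m3
import Cfsg.Agent.S2153
import Cfsg.Agent.R01.Assembly
import Cfsg.Agent.H800.IFx.Gen_m3
import Cfsg.Agent.H305.SprFi24
import Cfsg.Agent.H147.Fpr.CoOne
import Cfsg.Agent.H256.Sep.RowB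
import Cfsg.Agent.MonsterU.Chart
import Cfsg.Agent.H562.OreM.QVal
import Cfsg.Agent.H848.Dual
import Cfsg.Agent.H861.Gen.Mon
import Cfsg.Agent.H835.Mon.Row
import Cfsg.Agent.S5534
import Cfsg.Agent.FastGrp
import Cfsg.Agent.Prune
set_option linter.all false
prune_inst 0x7ffcfef9afa89ddeffff7e3ffffddffdf0eccfffefdff94bffe9ebbfef9f6367abc5fbaf0de4d8feded6e01c10b87853fb7eeeffe26bdc7ffffd5ff41ffbee0fa5efb70d71d5bc3e17fe6fff93f3778e6f3ffffffffffffffffffffffffffffffffdfbfeffff
open scoped Cfsg.Agent.FastGrp

-- part: H90/Fxy/Tools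
section
/-!
# S5719: tools for the sporadic rows (helper90)

* `card_mul_le` : `n |S| ≤ f |t^T|` for a set `S` of conjugates of `t` in `A`;
* `mem_of_relIndex_lt` : elements of prime order `p` of `B` are in `A` if `|B : B ∩ A| < p`;
* `le_of_gen` : `B ≤ A` if `|B : B ∩ A| < p` and `B` is generated by its elements of order `p`;
* `normal_le` : a normal subgroup of `2`-power order is contained in every subgroup of index at most 7, in a group generated by its
  elements of order 5.
-/

set_option autoImplicit false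
set_option linter.unusedSectionVars false

namespace Cfsg.Agent.H90.Fxy

open MulAction Subgroup Cfsg.Agent.H209.Fxy Cfsg.Agent.H999.IFB

section gen

variable {G : Type*} [Group G] [Finite G]

/-- an element of prime order larger than the index lies in the subgroup -/
theorem mem_of_index_lt {H : Subgroup G} {p : ℕ} (hp : p.Prime) (hH : H.index < p) {x : G} (hx : orderOf x = p) :
    x ∈ H := by
  -- two of the cosets `x^i H`, `i < p`, are equal
  have hfin : Finite (G ⧸ H) := inferInstance
  obtain ⟨i, j, hij, he⟩ : ∃ i j : Fin p, i ≠ j ∧ ((x ^ (i : ℕ) : G) : G ⧸ H) = ((x ^ (j : ℕ) : G) : G ⧸ H) := by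
    by_contra hcon
    push Not at hcon
    have hinj : Function.Injective fun i : Fin p => ((x ^ (i : ℕ) : G) : G ⧸ H) := by
      intro i j hij
      by_contra hne
      exact hcon i j hne hij
    have := Nat.card_le_card_of_injective _ hinj
    rw [Nat.card_fin] at this
    have h2 : H.index = Nat.card (G ⧸ H) := rfl
    omega
  wlog hlt : (i : ℕ) < j generalizing i j
  · exact this j i hij.symm he.symm (lt_of_le_of_ne (not_lt.1 hlt) fun h => hij (Fin.ext h.symm))
  rw [QuotientGroup.eq] at he
  have h1 : x ^ ((j : ℕ) - i) ∈ H := by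
    have h2 : (x ^ (i : ℕ))⁻¹ * x ^ (j : ℕ) = x ^ ((j : ℕ) - i) := by
      rw [inv_mul_eq_iff_eq_mul, ← pow_add]
      congr 1
      omega
    rwa [h2] at he
  have h3 : Nat.Coprime ((j : ℕ) - i) p := by
    rw [Nat.coprime_comm, hp.coprime_iff_not_dvd]
    intro h4
    have := Nat.le_of_dvd (by omega) h4
    have := j.2
    omega
  have h5 : Nat.Coprime ((j : ℕ) - i) (orderOf x) := by rw [hx]; exact h3
  obtain ⟨m, hm⟩ := exists_pow_eq_self_of_coprime h5
  rw [← hm]
  exact H.pow_mem h1 m

theorem eq_top_of_index_lt {p : ℕ} (hp : p.Prime) (hgen : ∀ H : Subgroup G, (∀ x, orderOf x = p → x ∈ H) → H = ⊤)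
    {H : Subgroup G} (hH : H.index < p) : H = ⊤ :=
  hgen H fun _ hx => mem_of_index_lt hp hH hx

/-- **a normal subgroup of 2-power order is contained in every subgroup of index at most 7** -/
theorem normal_le {E : Subgroup G} [E.Normal] {k : ℕ} (hE : Nat.card E = 2 ^ k)
    (hgen : ∀ H : Subgroup G, (∀ x, orderOf x = 5 → x ∈ H) → H = ⊤) {B : Subgroup G} (hB : B.index ≤ 7) : E ≤ B := by
  by_contra hcon
  have h1 : B < B ⊔ E := lt_of_le_of_ne le_sup_left fun h => hcon (h ▸ le_sup_right)
  -- the index of `B ⊔ E` is at most 3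
  have h2 : B.relIndex (B ⊔ E) * (B ⊔ E).index = B.index := Subgroup.relIndex_mul_index le_sup_left
  have h3 : B.relIndex (B ⊔ E) ≠ 1 := by
    rw [Ne, Subgroup.relIndex_eq_one]
    intro h
    exact absurd h (not_le_of_gt h1)
  have h4 : B.relIndex (B ⊔ E) ≠ 0 := by
    intro h
    rw [h, zero_mul] at h2
    exact Subgroup.index_ne_zero_of_finite h2.symm
  have h5 : (B ⊔ E).index < 5 := by
    have : 2 * (B ⊔ E).index ≤ B.index := by
      rw [← h2]
      exact Nat.mul_le_mul_right _ (by omega)
    omega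
  have h6 : B ⊔ E = ⊤ := eq_top_of_index_lt (by norm_num) hgen h5
  -- `|G : B| = |E : E ∩ B|`
  have h7 : E.relIndex B = E.index := by
    have h8 : E.relIndex (B ⊔ E) = E.relIndex B := Subgroup.relIndex_sup_right B E
    rw [h6, Subgroup.relIndex_top_right] at h8
    exact h8.symm
  have h8 : (B ⊓ E).relIndex E * E.index = (B ⊓ E).index := Subgroup.relIndex_mul_index inf_le_right
  have h9 : (B ⊓ E).relIndex B * B.index = (B ⊓ E).index := Subgroup.relIndex_mul_index inf_le_left
  have h10 : (B ⊓ E).relIndex B = E.relIndex B := Subgroup.inf_relIndex_left B E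
  have h11 : (B ⊓ E).relIndex E = B.relIndex E := Subgroup.inf_relIndex_right B E
  rw [h10, h7] at h9
  rw [h11] at h8
  have h12 : B.relIndex E = B.index := by
    have h13 : 0 < E.index := Nat.pos_of_ne_zero Subgroup.index_ne_zero_of_finite
    apply Nat.eq_of_mul_eq_mul_right h13
    rw [h8, ← h9, mul_comm]
  have h13 : B.relIndex E ∣ 2 ^ k := by
    rw [← hE]
    exact (B.subgroupOf E).index_dvd_card
  rw [h12] at h13
  obtain ⟨j, -, hj⟩ := (Nat.dvd_prime_pow Nat.prime_two).1 h13
  have h14 : B.index < 5 := by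
    rw [hj] at hB ⊢
    have : j < 3 := by
      by_contra h
      have : 2 ^ 3 ≤ 2 ^ j := Nat.pow_le_pow_right (by norm_num) (not_lt.1 h)
      omega
    interval_cases j <;> norm_num
  apply hcon
  rw [eq_top_of_index_lt (by norm_num) hgen h14]
  exact le_top

end gen

variable {T : Type*} [Group T] [Finite T] {A : Subgroup T} {Γ : Subgroup (MulAut T)}

/-- **`n |S| ≤ f |t^T|`** -/
theorem card_mul_le [IsSimpleGroup T] (h : IF A Γ) (hna : ∃ a b : T, a * b ≠ b * a) {t : T} (ht : t ∈ A)
    (h2 : orderOf t = 2) (S : Set T) (hS : ∀ s ∈ S, s ∈ A ∧ IsConj t s) :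
    A.index * S.ncard ≤ fx A (MulAut.conj t) * (centralizer ({t} : Set T)).index := by
  have hσ : MulAut.conj t ∈ Γ := (h.conj t).2 ht
  have h1 := IF.fix_formula' h hσ
  rw [(IF.E2' h hna ht h2).2.1] at h1
  rw [h1]
  apply Nat.mul_le_mul_left
  have hinj : Function.Injective (MulAut.conj : T →* MulAut T) := by
    rw [injective_iff_map_eq_one]
    intro z hz
    apply center_of hna
    intro x
    have h3 := congrArg (fun τ : MulAut T => τ x) hz
    simp only [MulAut.conj_apply, MulAut.one_apply] at h3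
    rwa [mul_inv_eq_iff_eq_mul] at h3
  rw [← Set.ncard_image_of_injective S hinj]
  apply Set.ncard_le_ncard _ (Set.toFinite _)
  rintro _ ⟨s, hs, rfl⟩
  obtain ⟨hsA, hc⟩ := hS s hs
  obtain ⟨c, hc⟩ := isConj_iff.1 hc
  refine ⟨⟨c, ?_⟩, (h.conj s).2 hsA⟩
  rw [← hc, map_mul, map_mul, map_inv]

/-- elements of prime order larger than the index -/
theorem mem_of_relIndex_lt {B : Subgroup T} {p : ℕ} (hp : p.Prime) (hB : A.relIndex B < p) {x : T} (hxB : x ∈ B)
    (hx : orderOf x = p) : x ∈ A := by
  have h1 : (⟨x, hxB⟩ : B) ∈ A.subgroupOf B :=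
    mem_of_index_lt hp hB (by rw [← orderOf_coe]; exact hx)
  exact h1

/-- the fixity bounds the index of `C_A(t)` -/
theorem relIndex_le [IsSimpleGroup T] (h : IF A Γ) (hna : ∃ a b : T, a * b ≠ b * a) {t : T} (ht : t ∈ A)
    (h2 : orderOf t = 2) {B : Subgroup T} (hB : B ≤ centralizer ({t} : Set T)) :
    A.relIndex B ≤ fx A (MulAut.conj t) := by
  have hσ : MulAut.conj t ∈ Γ := (h.conj t).2 ht
  have ho : orderOf (MulAut.conj t) = 2 := by rw [orderOf_conj hna, h2]
  refine (IF.E1 h hσ ho (B := B) fun b hb => ?_).1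
  have := Subgroup.mem_centralizer_singleton_iff.1 (hB hb)
  rw [MulAut.conj_apply, mul_inv_eq_iff_eq_mul]
  exact this.symm

theorem small' [IsSimpleGroup T] (h : IF A Γ) (hna : ∃ a b : T, a * b ≠ b * a) {t : T} (ht : t ∈ A)
    (h2 : orderOf t = 2) : fx A (MulAut.conj t) ^ 6 < A.index :=
  h.small _ ((h.conj t).2 ht) (by rw [orderOf_conj hna, h2])

end Cfsg.Agent.H90.Fxy
end

-- part: H895/IF/Co3
section
/-!
# S5719, row `Co3` (helper895)

`row_co3 : Row fun T => Spor.IsoCo3 T`.

Classes of involutions: `2A` (table `p40`, fixed points, class 170775), `2B` (table `p17`, no fixed points, 2608200).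
* `finA` : `t₀ ∈ A` of type 2A with `f(t₀) ≤ 4`: the elements of order 5 of `C(t₀)` are in `A`, hence `t₂` (2A, 274 conjugates
  under `C(t₀)`), `f(t₂) ≤ 4`, the elements of order 7 of `C(t₂)` are in `A`, and `A` contains 936 conjugates of `t₀`.
* `twoA` : `f(t₀) ≤ 11`, a subgroup `R0 ≤ C(t₀)` of order 16 without `t₀`.
* `twoB` : `f(t₁) ≤ 19`, `W1 ≤ C(t₁)` of order 32, then `W2` of order 16 with all involutions 2A.
-/

set_option autoImplicit false
set_option maxRecDepth 1000000
set_option exponentiation.threshold 6000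

namespace Cfsg.Agent.H895.CoIF

open Equiv Subgroup Cfsg Cfsg.Agent.H123.Cls Cfsg.Agent.H895.IFT Cfsg.Agent.H763.Co3.Dat Cfsg.Agent.H209.Fxy
open Cfsg.Agent.H763.Co3.Model (N A2 A_conj A_le card_A card_N N_le_A tabs_ok)
open Cfsg.Agent.H763.Co3.Fin (D_ok D_nodup D_sum cov eN)

/-! ### class sizes -/

theorem card_cls {n : ℕ} {A : Subgroup (Perm (Fin n))} (r : Perm (Fin n)) :
    Nat.card A = Nat.card ↥(A ⊓ Subgroup.centralizer {r}) * (cls A r).ncard := by
  let C : Subgroup A := (A ⊓ Subgroup.centralizer {r}).subgroupOf A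
  have e1 : Nat.card C = Nat.card ↥(A ⊓ Subgroup.centralizer {r}) :=
    Nat.card_congr (Subgroup.subgroupOfEquivOfLe inf_le_left).toEquiv
  have e2 : Nat.card (A ⧸ C) = (cls A r).ncard := by
    rw [← Nat.card_coe_set_eq]
    refine Nat.card_congr (Equiv.ofBijective (fun q : A ⧸ C => Quotient.liftOn' q
      (fun a => (⟨(a : Perm (Fin n)) * r * (a : Perm (Fin n))⁻¹, a, a.2, rfl⟩ : cls A r)) ?_) ⟨?_, ?_⟩)
    · intro a b hab
      rw [QuotientGroup.leftRel_apply] at hab
      have h2 := (Subgroup.mem_inf.1 (Subgroup.mem_subgroupOf.1 hab)).2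
      rw [Subgroup.mem_centralizer_singleton_iff] at h2
      apply Subtype.ext
      change ((a : Perm (Fin n))⁻¹ * b) * r = r * ((a : Perm (Fin n))⁻¹ * b) at h2
      change (a : Perm (Fin n)) * r * (a : Perm (Fin n))⁻¹ = b * r * (b : Perm (Fin n))⁻¹
      calc (a : Perm (Fin n)) * r * (a : Perm (Fin n))⁻¹ =
          a * (r * ((a : Perm (Fin n))⁻¹ * b)) * (b : Perm (Fin n))⁻¹ := by group
        _ = a * ((a : Perm (Fin n))⁻¹ * b * r) * (b : Perm (Fin n))⁻¹ := by rw [h2]
        _ = b * r * (b : Perm (Fin n))⁻¹ := by group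
    · intro q q' h
      induction q using Quotient.inductionOn' with
      | h a =>
        induction q' using Quotient.inductionOn' with
        | h b =>
          have h2 : (a : Perm (Fin n)) * r * (a : Perm (Fin n))⁻¹ = b * r * (b : Perm (Fin n))⁻¹ :=
            congrArg Subtype.val h
          refine Quotient.sound' ?_
          rw [QuotientGroup.leftRel_apply]
          refine Subgroup.mem_subgroupOf.2 (Subgroup.mem_inf.2 ⟨(a⁻¹ * b).2, ?_⟩)
          rw [Subgroup.mem_centralizer_singleton_iff]
          change ((a : Perm (Fin n))⁻¹ * b) * r = r * ((a : Perm (Fin n))⁻¹ * b)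
          calc ((a : Perm (Fin n))⁻¹ * b) * r =
              (a : Perm (Fin n))⁻¹ * (b * r * (b : Perm (Fin n))⁻¹) * b := by group
            _ = (a : Perm (Fin n))⁻¹ * (a * r * (a : Perm (Fin n))⁻¹) * b := by rw [h2]
            _ = r * ((a : Perm (Fin n))⁻¹ * b) := by group
    · rintro ⟨x, a, ha, rfl⟩
      exact ⟨Quotient.mk'' ⟨a, ha⟩, rfl⟩
  rw [← e1, ← e2, mul_comm]
  exact Subgroup.card_eq_card_quotient_mul_card_subgroup C

/-- Exactness with a lower bound `a` of `|A|` and an invariant `J`. -/
theorem cls_exact_J {n K w : ℕ} {row : ℕ → ℕ} {A N : Subgroup (Perm (Fin n))} (hn : n ≤ 2 ^ K) (hA : A ≤ Cfsg.Agent.Lib.BitNet.Aut n row)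
    (hnA : ∀ a ∈ A, ∀ x ∈ N, a * x * a⁻¹ ∈ N) {a : ℕ} (haA : a ≤ Nat.card A) (D : List (ℕ × ℕ × List ℕ))
    (hr : ∀ x ∈ D, ∃ g ∈ N, ∀ p : Fin n, (g p : ℕ) = lk w x.1 p)
    (hc : ∀ x ∈ D, ∃ l L, chkB n K row w x.1 l L x.2.1 = true)
    (J : Perm (Fin n) → List ℕ) (hJ : ∀ b ∈ A, ∀ r, J (b * r * b⁻¹) = J r)
    (hs : ∀ x ∈ D, ∀ r : Perm (Fin n), (∀ p : Fin n, (r p : ℕ) = lk w x.1 p) → J r = x.2.2)
    (hnd : (D.map fun x => x.2.2).Nodup)
    (hsum : Nat.card N ≤ (D.map fun x => a / (x.2.1 + 1)).sum) {x : ℕ × ℕ × List ℕ} (hx : x ∈ D)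
    {g : Perm (Fin n)} (hg : ∀ p : Fin n, (g p : ℕ) = lk w x.1 p) : (cls A g).ncard ≤ a / (x.2.1 + 1) := by
  classical
  have hmem : ∀ i : Fin D.length, D[i.1] ∈ D := fun i => List.getElem_mem i.2
  have hinj : Function.Injective (fun i : Fin D.length => (D[i.1]).2.2) := by
    intro i j hij
    have h1 := (List.nodup_iff_injective_get.1 hnd)
    have h2 : (⟨i.1, by rw [List.length_map]; exact i.2⟩ : Fin (D.map fun x => x.2.2).length) =
        ⟨j.1, by rw [List.length_map]; exact j.2⟩ := by
      apply h1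
      simpa using hij
    have h3 := congrArg Fin.val h2
    exact Fin.ext h3
  have hr' : ∀ i : Fin D.length, ∃ g ∈ N, ∀ p : Fin n, (g p : ℕ) = lk w (D[i.1]).1 p := fun i => hr _ (hmem i)
  choose r hrN hrp using hr'
  have hq : ∀ i : Fin D.length, a / ((D[i.1]).2.1 + 1) ≤ (cls A (r i)).ncard := by
    intro i
    have h1 := card_cls (A := A) (r i)
    have h0 : 0 < Nat.card ↥(A ⊓ Subgroup.centralizer {r i}) := Nat.card_pos
    have h2 : Nat.card ↥(A ⊓ Subgroup.centralizer {r i}) ≤ (D[i.1]).2.1 + 1 := by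
      obtain ⟨l, L, h1⟩ := hc _ (hmem i)
      refine card_le_bound hn (hrp i) h1 (inf_le_left.trans hA) fun σ hσ p => ?_
      have h2 := Subgroup.mem_centralizer_singleton_iff.1 (Subgroup.mem_inf.1 hσ).2
      exact congrArg (fun τ : Perm (Fin n) => τ p) h2
    calc a / ((D[i.1]).2.1 + 1) ≤ Nat.card A / ((D[i.1]).2.1 + 1) := Nat.div_le_div_right haA
      _ ≤ Nat.card A / Nat.card ↥(A ⊓ Subgroup.centralizer {r i}) := Nat.div_le_div_left h2 h0
      _ = (cls A (r i)).ncard := by
        rw [h1, Nat.mul_div_cancel_left _ h0]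
  have hdis : Set.PairwiseDisjoint (Set.univ : Set (Fin D.length)) (fun i => cls A (r i)) := by
    intro i _ j _ hij
    rw [Function.onFun, Set.disjoint_left]
    rintro x ⟨a, ha, rfl⟩ ⟨b, hb, h⟩
    apply hij
    apply hinj
    show (D[i.1]).2.2 = (D[j.1]).2.2
    rw [← hs _ (hmem i) _ (hrp i), ← hs _ (hmem j) _ (hrp j), ← hJ a ha (r i), h, hJ b hb]
  have hun : (⋃ i, cls A (r i)) ⊆ (N : Set (Perm (Fin n))) := by
    intro x hx
    obtain ⟨i, a, ha, rfl⟩ := Set.mem_iUnion.1 hx
    exact hnA a ha _ (hrN i)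
  have hcard : (⋃ i, cls A (r i)).ncard = ∑ i, (cls A (r i)).ncard := by
    have h := Set.ncard_iUnion_of_finite (s := fun i => cls A (r i)) (fun i => Set.toFinite _)
      (fun i j hij => hdis (Set.mem_univ i) (Set.mem_univ j) hij)
    rw [h, finsum_eq_sum_of_fintype]
  have hle : ∑ i, (cls A (r i)).ncard ≤ ∑ i : Fin D.length, a / ((D[i.1]).2.1 + 1) := by
    rw [← hcard, Fin.sum_univ_fun_getElem D (fun x => a / (x.2.1 + 1))]
    exact (Set.ncard_le_ncard hun (Set.toFinite _)).trans hsum
  obtain ⟨i, hi, hix⟩ := List.getElem_of_mem hx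
  have h2 : r ⟨i, hi⟩ = g := by
    ext p
    rw [hrp, hg]
    show lk w (D[i]).1 p = _
    rw [hix]
  rw [← h2]
  by_contra hlt
  rw [not_le] at hlt
  have h3 : D[(⟨i, hi⟩ : Fin D.length).1] = x := hix
  rw [← h3] at hlt
  have h1 : ∑ i : Fin D.length, a / ((D[i.1]).2.1 + 1) < ∑ i, (cls A (r i)).ncard :=
    Finset.sum_lt_sum (fun j _ => hq j) ⟨⟨i, hi⟩, Finset.mem_univ _, hlt⟩
  omega

theorem cls_le {x : ℕ × ℕ × List ℕ} (hx : x ∈ D) {g : Perm (Fin 552)} (hg : ∀ p : Fin 552, (g p : ℕ) = lk 10 x.1 p) :
    (cls A2 g).ncard ≤ 2 * 495766656000 / (x.2.1 + 1) :=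
  cls_exact_J (K := 10) (row := row) (by norm_num) A_le (fun _ ha _ hx => A_conj ha hx) card_A D
    (fun x hx => by
      obtain ⟨a, b, h⟩ := (D_ok x hx).cm
      obtain ⟨u, hu, v, hv, h1⟩ := exists_of_chkC tabs_ok h
      exact ⟨_, N.mul_mem (N.mul_mem (N.mul_mem hu hv) (N.inv_mem hu)) (N.inv_mem hv), h1⟩)
    (fun x hx => (D_ok x hx).bd) (H763.Cls.Jx row key) (fun b hb r => H763.Cls.Jx_conj (A_le hb) r)
    (fun x hx r hr => by
      obtain ⟨c, cs, e, h1, h2, h3⟩ := (D_ok x hx).sg
      rw [e]
      exact H763.Cls.Jx_of (K := 10) (by norm_num) h1 h2 h3 hr)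
    D_nodup (by rw [card_N]; exact Nat.le_of_ble_eq_true D_sum) hx hg

theorem mem40 : ((p40, 5806079, [11767680, 480, 72, 552]) : ℕ × ℕ × List ℕ) ∈ D := by
  unfold D
  iterate 40 refine List.mem_cons_of_mem _ ?_
  exact List.mem_cons_self

theorem mem17 : ((p17, 380159, [3506976, 264, 0, 552]) : ℕ × ℕ × List ℕ) ∈ D := by
  unfold D
  iterate 17 refine List.mem_cons_of_mem _ ?_
  exact List.mem_cons_self

/-! ### involutions -/

/-- an involution has one of the tables `p40`, `p17`, the identity has `p1` -/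
noncomputable def exc (P : ℕ) : Bool := cnd (Nat.beq P p40) true (cnd (Nat.beq P p17) true (cnd (Nat.beq P p1) true
  (List.rec false (fun b _ ih => cnd (Nat.beq (lk 10 P (lk 10 P b)) b) ih true) bs)))

theorem exc_D : List.rec (motive := fun _ => Bool) true (fun x _ ih => band (exc x.1) ih) D = true := by
  unfold D
  decide +kernel

theorem p1_id : allN (fun p => Nat.beq (lk 10 p1 p) p) 552 = true := by decide +kernel

theorem exc_spec {x : ℕ × ℕ × List ℕ} (hx : x ∈ D) : exc x.1 = true := by
  have key : ∀ l : List (ℕ × ℕ × List ℕ), List.rec (motive := fun _ => Bool) true (fun x _ ih => band (exc x.1) ih) l = true →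
      ∀ x ∈ l, exc x.1 = true := by
    intro l
    induction l with
    | nil => intro _ x hx; exact absurd hx List.not_mem_nil
    | cons y l ih =>
      intro h x hx
      obtain ⟨h1, h2⟩ := band_true h
      rcases List.mem_cons.1 hx with rfl | hx
      · exact h1
      · exact ih h2 x hx
  exact key D exc_D x hx

theorem moved {P : ℕ} {r : Perm (Fin 552)} (hr : ∀ p : Fin 552, (r p : ℕ) = lk 10 P p) (h2 : r * r = 1) : ∀ l : List ℕ,
    (∀ b ∈ l, b < 552) → List.rec (motive := fun _ => Bool) false (fun b _ ih => cnd (Nat.beq (lk 10 P (lk 10 P b)) b) ih true) l = false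
  | [], _ => rfl
  | b :: l, hb => by
    show cnd (Nat.beq (lk 10 P (lk 10 P b)) b) _ true = false
    have h3 : lk 10 P (lk 10 P b) = b := by
      have h4 := hr ⟨b, hb b List.mem_cons_self⟩
      have h5 := hr (r ⟨b, hb b List.mem_cons_self⟩)
      rw [h4] at h5
      have h6 : r (r ⟨b, hb b List.mem_cons_self⟩) = ⟨b, hb b List.mem_cons_self⟩ := by
        rw [← Perm.mul_apply, h2]; rfl
      rw [h6] at h5
      exact h5.symm
    rw [h3, Nat.beq_refl, cnd_true]
    exact moved hr h2 l fun x hx => hb x (List.mem_cons_of_mem _ hx)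

/-- the conjugation -/
theorem exists_aut {b : Perm (Fin 552)} (hb : b ∈ A2) :
    ∃ α : N ≃* N, ∀ x : N, ((α x : N) : Perm (Fin 552)) = b * x * b⁻¹ := by
  refine ⟨⟨⟨fun x => ⟨b * x * b⁻¹, A_conj hb x.2⟩, fun x => ⟨b⁻¹ * x * b⁻¹⁻¹, A_conj (A2.inv_mem hb) x.2⟩,
    fun x => Subtype.ext ?_, fun x => Subtype.ext ?_⟩, fun x y => Subtype.ext ?_⟩, fun x => rfl⟩
  · show b⁻¹ * (b * (x : Perm (Fin 552)) * b⁻¹) * b⁻¹⁻¹ = x
    group
  · show b * (b⁻¹ * (x : Perm (Fin 552)) * b⁻¹⁻¹) * b⁻¹ = x
    group
  · show b * ((x : Perm (Fin 552)) * y) * b⁻¹ = b * x * b⁻¹ * (b * y * b⁻¹)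
    group

theorem inv_cases {s : N} (hs : orderOf s = 2) : ∃ b ∈ A2, ∃ r : N, (Tab N.subtype 10 r p40 ∨ Tab N.subtype 10 r p17) ∧
    (s : Perm (Fin 552)) = b * r * b⁻¹ := by
  obtain ⟨x, hx, r, hr, ht, b, hb, h⟩ := cov s s.2
  have hs2 : s * s = 1 := by rw [← pow_two, ← hs, pow_orderOf_eq_one]
  have hs1 : s ≠ 1 := by rintro rfl; rw [orderOf_one] at hs; omega
  have hr2 : r * r = 1 := by
    have h1 : (s : Perm (Fin 552)) * s = 1 := congrArg Subtype.val hs2
    rw [h] at h1
    have h2 : b * r * b⁻¹ * (b * r * b⁻¹) = b * (r * r) * b⁻¹ := by group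
    rw [h2] at h1
    have h3 : b⁻¹ * (b * (r * r) * b⁻¹) * b = r * r := by group
    rw [← h3, h1]
    group
  have h1 := exc_spec hx
  unfold exc at h1
  have h2 := moved ht hr2 bs (by
    intro b hb
    simp only [bs, List.mem_cons, List.not_mem_nil, or_false] at hb
    rcases hb with rfl | rfl | rfl | rfl | rfl | rfl <;> norm_num)
  rw [h2] at h1
  refine ⟨b, hb, ⟨r, hr⟩, ?_, h⟩
  by_cases h40 : x.1 = p40
  · left; rw [← h40]; exact ht
  · by_cases h17 : x.1 = p17
    · right; rw [← h17]; exact ht
    · exfalso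
      have e40 : Nat.beq x.1 p40 = false := by
        rw [← Bool.not_eq_true]; exact fun h => h40 (Nat.eq_of_beq_eq_true h)
      have e17 : Nat.beq x.1 p17 = false := by
        rw [← Bool.not_eq_true]; exact fun h => h17 (Nat.eq_of_beq_eq_true h)
      rw [e40, e17, cnd_false, cnd_false] at h1
      by_cases hp1 : x.1 = p1
      · have h3 : r = 1 := by
          ext p
          rw [ht, hp1]
          exact Nat.eq_of_beq_eq_true ((allN_iff _ _).1 p1_id p p.2)
        apply hs1
        apply Subtype.ext
        rw [h, h3]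
        show b * 1 * b⁻¹ = 1
        group
      · have e1 : Nat.beq x.1 p1 = false := by
          rw [← Bool.not_eq_true]; exact fun h => hp1 (Nat.eq_of_beq_eq_true h)
        rw [e1, cnd_false] at h1
        exact Bool.noConfusion h1

/-- an involution with a fixed point -/
theorem inv_A {s : N} (hs : orderOf s = 2) {p : Fin 552} (hp : (s : Perm (Fin 552)) p = p) : ∃ b ∈ A2, ∃ r : N,
    Tab N.subtype 10 r p40 ∧ (s : Perm (Fin 552)) = b * r * b⁻¹ := by
  obtain ⟨b, hb, r, h1 | h1, h2⟩ := inv_cases hs
  · exact ⟨b, hb, r, h1, h2⟩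
  · exfalso
    have h3 : (r : Perm (Fin 552)) (b⁻¹ p) = b⁻¹ p := by
      have h4 : (r : Perm (Fin 552)) = b⁻¹ * s * b := by rw [h2]; group
      rw [h4, Perm.mul_apply, Perm.mul_apply]
      have h5 : b (b⁻¹ p) = p := Equiv.apply_symm_apply b p
      rw [h5, hp]
    have h4 := (allN_iff _ _).1 nofix (b⁻¹ p) (b⁻¹ p).2
    have h5 := h1 (b⁻¹ p)
    have h6 : ((N.subtype r : Perm (Fin 552)) (b⁻¹ p) : ℕ) = (b⁻¹ p : Fin 552) := congrArg Fin.val h3
    rw [h6] at h5
    rw [← h5, Nat.beq_refl] at h4
    exact Bool.noConfusion h4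

theorem hψ : Function.Injective N.subtype := N.subtype_injective

theorem index_A {s : N} {b : Perm (Fin 552)} (hb : b ∈ A2) {r : N} (hr : Tab N.subtype 10 r p40)
    (h : (s : Perm (Fin 552)) = b * r * b⁻¹) : (centralizer ({s} : Set N)).index ≤ 170775 := by
  refine index_le_of_cls hψ (A := A2) (by rw [N.range_subtype]; exact N_le_A) ?_
  have h1 : N.subtype s = b * r * b⁻¹ := h
  rw [h1, cls_conj hb]
  exact (cls_le mem40 hr).trans (by norm_num)

theorem index_B {s : N} {b : Perm (Fin 552)} (hb : b ∈ A2) {r : N} (hr : Tab N.subtype 10 r p17)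
    (h : (s : Perm (Fin 552)) = b * r * b⁻¹) : (centralizer ({s} : Set N)).index ≤ 2608200 := by
  refine index_le_of_cls hψ (A := A2) (by rw [N.range_subtype]; exact N_le_A) ?_
  have h1 : N.subtype s = b * r * b⁻¹ := h
  rw [h1, cls_conj hb]
  exact (cls_le mem17 hr).trans (by norm_num)

/-! ### letters -/

theorem letters {Dt Di : List ℕ} (h : ∀ P ∈ Dt, Has P) (h' : ∀ P ∈ Di, Has P) (hlen : Di.length = Dt.length)
    (hc : allN (fun i => chkI 552 10 (nth Dt i) (nth Di i)) Dt.length = true) :
    ∃ d : ℕ → N, (∀ i < Dt.length, Tab N.subtype 10 (d i) (nth Dt i)) ∧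
      (∀ i < Dt.length, Tab N.subtype 10 (d i)⁻¹ (nth Di i)) := by
  obtain ⟨d, hd⟩ := choose_of h
  obtain ⟨d', hd'⟩ := choose_of h'
  refine ⟨d, hd, fun i hi => ?_⟩
  have h1 := mul_eq_one hψ (hd i hi) (hd' i (by rw [hlen]; exact hi)) ((allN_iff _ _).1 hc i hi)
  rw [inv_eq_of_mul_eq_one_right h1]
  exact hd' i (by rw [hlen]; exact hi)

theorem pow_of {x : N} {P k : ℕ} (hx : Tab N.subtype 10 x P) (h : chkP P k = true) : x ^ k = 1 := by
  apply Subtype.ext
  ext p
  have h1 := Nat.eq_of_beq_eq_true ((allN_iff _ _).1 h p p.2)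
  rw [it_eq (r := (x : Perm (Fin 552))) hx] at h1
  exact h1

theorem comm_all {Dt : List ℕ} {d : ℕ → N} {k : ℕ} (hd : ∀ i < k, Tab N.subtype 10 (d i) (nth Dt i)) {t : N} {P : ℕ}
    (ht : Tab N.subtype 10 t P) (h : allN (fun i => chkM 552 10 (nth Dt i) P) k = true) :
    ∀ x ∈ _root_.Subgroup.closure {y : N | ∃ i < k, y = d i}, x * t = t * x := by
  intro x hx
  have h1 : _root_.Subgroup.closure {y : N | ∃ i < k, y = d i} ≤ centralizer {t} := by
    rw [closure_le]
    rintro _ ⟨i, hi, rfl⟩
    show d i ∈ centralizer {t}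
    rw [mem_centralizer_singleton_iff]
    exact _root_.Cfsg.Agent.H895.IFT.comm_of hψ (hd i hi) ht ((allN_iff _ _).1 h i hi)
  exact mem_centralizer_singleton_iff.1 (h1 hx)

theorem ord_of {t : N} {P : ℕ} (ht : Tab N.subtype 10 t P) (h : chkI 552 10 P P = true)
    (h' : ∃ b : Fin 552, Nat.beq (lk 10 P b) b = false) : orderOf t = 2 := by
  obtain ⟨b, hb⟩ := h'
  exact orderOf_two (mul_eq_one hψ ht ht h) (ne_one_of ht b hb)

theorem ne_of_NI {P : ℕ} (h : NI P) {y : N} (hy : Tab N.subtype 10 y P) (h2 : y * y = 1) : False := by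
  obtain ⟨b, hb⟩ := h
  obtain ⟨h3, h4⟩ := band_true hb
  rw [Nat.blt_eq] at h3
  have h5 := hy ⟨b, h3⟩
  have h6 := hy (N.subtype y ⟨b, h3⟩)
  rw [h5] at h6
  have h7 : N.subtype y (N.subtype y ⟨b, h3⟩) = ⟨b, h3⟩ := by
    rw [← Perm.mul_apply, ← map_mul, h2]; rfl
  rw [h7] at h6
  have h8 : lk 10 P (lk 10 P b) = b := h6.symm
  rw [h8, Nat.beq_refl] at h4
  exact absurd h4 (by decide)

theorem fix_of_FP {P : ℕ} (h : FP P) {y : N} (hy : Tab N.subtype 10 y P) :
    ∃ p : Fin 552, (y : Perm (Fin 552)) p = p := by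
  obtain ⟨b, hb⟩ := h
  obtain ⟨h3, h4⟩ := band_true hb
  rw [Nat.blt_eq] at h3
  refine ⟨⟨b, h3⟩, Fin.ext ?_⟩
  exact (hy ⟨b, h3⟩).trans (Nat.eq_of_beq_eq_true h4)

/-- transport to the representative -/
theorem transport {A : Subgroup N} {Γ : Subgroup (MulAut N)} (h : IF A Γ) {s : N} (hs : s ∈ A) {b : Perm (Fin 552)} (hb : b ∈ A2) {r : N}
    (hbr : (s : Perm (Fin 552)) = b * r * b⁻¹) : ∃ (A' : Subgroup N) (Γ' : Subgroup (MulAut N)), IF A' Γ' ∧ r ∈ A' := by
  obtain ⟨α, hα⟩ := exists_aut (A2.inv_mem hb)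
  have h1 : α s = r := by
    apply Subtype.ext
    rw [hα, hbr]
    group
  obtain ⟨A', Γ', h2, h3, -⟩ := map_aut h α hs h1
  exact ⟨A', Γ', h2, h3⟩

section

variable [IsSimpleGroup N] (hna : ∃ a b : N, a * b ≠ b * a) {A : Subgroup N} {Γ : Subgroup (MulAut N)}

include hna

theorem finA (h : IF A Γ) {t : N} (hT : Tab N.subtype 10 t p40) (ht : t ∈ A) (hf : fx A (MulAut.conj t) ≤ 4) : False := by
  have ht2 : orderOf t = 2 := ord_of hT pp0 ⟨7, by decide +kernel⟩
  obtain ⟨d, hd, hi⟩ := letters hZt hZi rfl iZ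
  change ∀ i < 8, _ at hd
  change ∀ i < 8, _ at hi
  have hYt : ∀ i < 6, nth Zt i = nth Yt i := by
    intro i hi
    interval_cases i <;> rfl
  have hYi : ∀ i < 6, nth Zi i = nth Yi i := by
    intro i hi
    interval_cases i <;> rfl
  have hdY : ∀ i < 6, Tab N.subtype 10 (d i) (nth Yt i) := fun i h => by rw [← hYt i h]; exact hd i (by omega)
  have hiY : ∀ i < 6, Tab N.subtype 10 (d i)⁻¹ (nth Yi i) := fun i h => by rw [← hYi i h]; exact hi i (by omega)
  -- the elements of order 5
  have hcY := comm_all hdY hT mY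
  have hmem : ∀ i < 6, d i ∈ _root_.Subgroup.closure {y : N | ∃ i < 6, y = d i} := fun i h => subset_closure ⟨i, h, rfl⟩
  have hA5 : ∀ i < 6, d i ∈ A := fun i h6 => mem_of_prime h hna ht ht2 (hcY _ (hmem i h6)) Nat.prime_five
    (pow_of (hdY i h6) ((allN_iff _ _).1 pY i h6)) (by omega)
  have hAY : _root_.Subgroup.closure {y : N | ∃ i < 6, y = d i} ≤ A := by
    rw [closure_le]
    rintro _ ⟨i, h6, rfl⟩
    exact hA5 i h6
  -- `t₂`
  have hT2 : Tab N.subtype 10 (wd d ([1, 5, 1, 5, 1, 5] : List ℕ)) e35 := tab_wd (tabs := Yt) hdY w2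
  set t2 := wd d ([1, 5, 1, 5, 1, 5] : List ℕ) with ht2def
  have h2A : t2 ∈ A := by
    refine hAY (wd_mem _ ?_)
    exact chkL_iff _ _ (band_true w2).1
  have ho2 : orderOf t2 = 2 := ord_of hT2 pp2 ⟨0, by decide +kernel⟩
  obtain ⟨b, hb, r, hr, hbr⟩ := inv_A ho2 (p := (10 : Fin 552)) (by
    apply Fin.ext
    have := hT2 (10 : Fin 552)
    exact this.trans (Nat.eq_of_beq_eq_true f2))
  have hK : 274 ≤ (cls (_root_.Subgroup.closure {y : N | ∃ i < 6, y = d i}) t2).ncard := by
    have h1 := orb_le (D := _root_.Subgroup.closure {y : N | ∃ i < 6, y = d i}) (m := 6) (by norm_num) hmem hdY hiY hT2 oT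
    rwa [lT] at h1
  have hE := E4c h hna h2A ht ho2 ht2 hcY hK (index_A hb hr hbr)
  have hf2 : fx A (MulAut.conj t2) ≤ 4 := by
    by_contra hcon
    rw [not_le] at hcon
    have h1 : 5 ^ 4 ≤ fx A (MulAut.conj t2) ^ 4 := Nat.pow_le_pow_left hcon 4
    have := hE.2
    omega
  -- the elements of order 7
  have hA7 : ∀ i, i = 6 ∨ i = 7 → d i ∈ A := by
    rintro i (rfl | rfl)
    · exact mem_of_prime h hna h2A ho2 (_root_.Cfsg.Agent.H895.IFT.comm_of hψ (hd 6 (by norm_num)) hT2 mz) (by norm_num : Nat.Prime 7)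
        (pow_of (hd 6 (by norm_num)) pz) (by omega)
    · exact mem_of_prime h hna h2A ho2 (_root_.Cfsg.Agent.H895.IFT.comm_of hψ (hd 7 (by norm_num)) hT2 mz') (by norm_num : Nat.Prime 7)
        (pow_of (hd 7 (by norm_num)) pz') (by omega)
  have hA8 : ∀ i < 8, d i ∈ A := by
    intro i h8
    rcases lt_or_ge i 6 with h6 | h6
    · exact hA5 i h6
    · exact hA7 i (by omega)
  have hAZ : _root_.Subgroup.closure {y : N | ∃ i < 8, y = d i} ≤ A := by
    rw [closure_le]
    rintro _ ⟨i, h6, rfl⟩
    exact hA8 i h6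
  have hKF : 936 ≤ (cls (_root_.Subgroup.closure {y : N | ∃ i < 8, y = d i}) t).ncard := by
    have h1 := orb_le (D := _root_.Subgroup.closure {y : N | ∃ i < 8, y = d i}) (m := 8) (by norm_num)
      (fun i h => subset_closure ⟨i, h, rfl⟩) hd hi hT oF
    rwa [lF] at h1
  exact fin_kill h hna ht ht2 hAZ hf hKF (index_A (A2.one_mem) hT (by group)) (by norm_num)

theorem twoA (h : IF A Γ) {t : N} (hT : Tab N.subtype 10 t p40) (ht : t ∈ A) : False := by
  have ht2 : orderOf t = 2 := ord_of hT pp0 ⟨7, by decide +kernel⟩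
  have hidx : (centralizer ({t} : Set N)).index ≤ 170775 := index_A (A2.one_mem) hT (by group)
  have hf := f_lt h hna ht ht2 hidx
  have hf11 : fx A (MulAut.conj t) ≤ 11 := by
    by_contra hcon
    rw [not_le] at hcon
    have h1 : 12 ^ 5 ≤ fx A (MulAut.conj t) ^ 5 := Nat.pow_le_pow_left hcon 5
    omega
  obtain ⟨g, hg⟩ := choose_of hGR0
  have hW := comm_all (k := 2) hg hT mGR0
  have hcov : ∀ x ∈ _root_.Subgroup.closure {y : N | ∃ i < 2, y = g i}, _ := fun x hx => grp_cov hψ hg QR0 NR0 hx
  have hcard : 16 ≤ Nat.card (closure {y : N | ∃ i < 2, y = g i}) := by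
    have h1 := card_ge hg QR0 (bs := [0, 1]) rfl kGR0
    rwa [lGR0] at h1
  obtain ⟨y, hyW, hyA, hy1, hy2⟩ := exists_inv h hna ht ht2 hW (fun x hx => by
    obtain ⟨a, -, -, -, h4⟩ := hcov x hx
    exact h4) hcard (by omega)
  have hyo := orderOf_two hy2 hy1
  obtain ⟨a, ha, hya, hTa, -⟩ := hcov y hyW
  rcases CR0 a ha with h1 | h1 | h1
  · rw [h1] at hya
    exact hy1 hya
  · exact ne_of_NI h1 hTa hy2
  · obtain ⟨f, c, hc⟩ := h1
    obtain ⟨d, hd, hi⟩ := letters hYt hYi rfl iY
    change ∀ i < 6, _ at hd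
    change ∀ i < 6, _ at hi
    obtain ⟨s, hs⟩ := hs1
    have hcY := comm_all hd hT mY
    have hmem : ∀ i < 6, d i ∈ _root_.Subgroup.closure {y : N | ∃ i < 6, y = d i} := fun i h => subset_closure ⟨i, h, rfl⟩
    have hys := conj_of hψ (by norm_num) hd hi hs hTa hc
    have hK : 274 ≤ (cls (_root_.Subgroup.closure {y : N | ∃ i < 6, y = d i}) y).ncard := by
      have h1 := orb_le (D := _root_.Subgroup.closure {y : N | ∃ i < 6, y = d i}) (m := 6) (by norm_num) hmem hd hi hs oR
      rw [lR] at h1
      rw [hys, cls_conj (cu_mem (by norm_num) hmem f c)]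
      exact h1
    set u := cu 6 d f c with hu
    have hfix : (y : Perm (Fin 552)) ((u : Perm (Fin 552)) 0) = (u : Perm (Fin 552)) 0 := by
      have h3 : (s : Perm (Fin 552)) 0 = 0 := by
        apply Fin.ext
        exact (hs 0).trans (Nat.eq_of_beq_eq_true f1)
      rw [hys]
      show (u : Perm (Fin 552)) ((s : Perm (Fin 552)) (((u⁻¹ : N) : Perm (Fin 552)) ((u : Perm (Fin 552)) 0))) = _
      have h4 : ((u⁻¹ : N) : Perm (Fin 552)) ((u : Perm (Fin 552)) 0) = 0 := by
        show (u : Perm (Fin 552))⁻¹ ((u : Perm (Fin 552)) 0) = 0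
        exact Equiv.symm_apply_apply _ _
      rw [h4, h3]
    obtain ⟨b, hb, r, hr, hbr⟩ := inv_A hyo hfix
    have hE := E4c h hna hyA ht hyo ht2 hcY hK (index_A hb hr hbr)
    refine finA hna h hT ht ?_
    by_contra hcon
    rw [not_le] at hcon
    have h1 : 5 ^ 4 ≤ fx A (MulAut.conj t) ^ 4 := Nat.pow_le_pow_left hcon 4
    have := hE.1
    omega

theorem killA (h : IF A Γ) {s : N} (hs : s ∈ A) (ho : orderOf s = 2) {p : Fin 552}
    (hp : (s : Perm (Fin 552)) p = p) : False := by
  obtain ⟨b, hb, r, hr, hbr⟩ := inv_A ho hp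
  obtain ⟨A', Γ', h2, h3⟩ := transport h hs hb hbr
  exact twoA hna h2 hr h3

theorem twoB (h : IF A Γ) {t : N} (hT : Tab N.subtype 10 t p17) (ht : t ∈ A) : False := by
  have ht2 : orderOf t = 2 := ord_of hT pp1 ⟨0, by decide +kernel⟩
  have hidx : (centralizer ({t} : Set N)).index ≤ 2608200 := index_B (A2.one_mem) hT (by group)
  have hf := f_lt h hna ht ht2 hidx
  have hf19 : fx A (MulAut.conj t) ≤ 19 := by
    by_contra hcon
    rw [not_le] at hcon
    have h1 : 20 ^ 5 ≤ fx A (MulAut.conj t) ^ 5 := Nat.pow_le_pow_left hcon 5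
    omega
  obtain ⟨g, hg⟩ := choose_of hGW1
  have hW := comm_all (k := GW1.length) hg hT mGW1
  have hcov : ∀ x ∈ _root_.Subgroup.closure {y : N | ∃ i < GW1.length, y = g i}, _ := fun x hx => grp_cov hψ hg QW1 NW1 hx
  have hcard : 32 ≤ Nat.card (closure {y : N | ∃ i < GW1.length, y = g i}) := by
    have h1 := card_ge hg QW1 (bs := [0, 1]) rfl kGW1
    rwa [lGW1] at h1
  obtain ⟨y, hyW, hyA, hy1, hy2⟩ := exists_inv h hna ht ht2 hW (fun x hx => by
    obtain ⟨a, -, -, -, h4⟩ := hcov x hx
    exact h4) hcard (by omega)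
  have hyo := orderOf_two hy2 hy1
  obtain ⟨a, ha, hya, hTa, -⟩ := hcov y hyW
  rcases CW1 a ha with h1 | h1 | h1 | h1
  · rw [h1] at hya
    exact hy1 hya
  · exact ne_of_NI h1 hTa hy2
  · obtain ⟨p, hp⟩ := fix_of_FP h1 hTa
    exact killA hna h hyA hyo hp
  · obtain ⟨f, c, hc⟩ := h1
    obtain ⟨d, hd, hi⟩ := letters hMt hMi rfl iM
    change ∀ i < 4, _ at hd
    change ∀ i < 4, _ at hi
    obtain ⟨s, hs⟩ := hs2
    have hcY := comm_all hd hT mM
    have hmem : ∀ i < 4, d i ∈ _root_.Subgroup.closure {y : N | ∃ i < 4, y = d i} := fun i h => subset_closure ⟨i, h, rfl⟩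
    have hys := conj_of hψ (by norm_num) hd hi hs hTa hc
    have hK : 274 ≤ (cls (_root_.Subgroup.closure {y : N | ∃ i < 4, y = d i}) y).ncard := by
      have h1 := orb_le (D := _root_.Subgroup.closure {y : N | ∃ i < 4, y = d i}) (m := 4) (by norm_num) hmem hd hi hs oW
      rw [lW] at h1
      rw [hys, cls_conj (cu_mem (by norm_num) hmem f c)]
      exact h1
    have hyi : (centralizer ({y} : Set N)).index ≤ 2608200 := by
      obtain ⟨b, hb, r, hr | hr, hbr⟩ := inv_cases hyo
      · exact (index_A hb hr hbr).trans (by norm_num)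
      · exact index_B hb hr hbr
    have hE := (E4c h hna hyA ht hyo ht2 hcY hK hyi).1
    have hf9 : fx A (MulAut.conj t) ≤ 9 := by
      by_contra hcon
      rw [not_le] at hcon
      have h1 : 10 ^ 4 ≤ fx A (MulAut.conj t) ^ 4 := Nat.pow_le_pow_left hcon 4
      omega
    -- the second group
    obtain ⟨g', hg'⟩ := choose_of hGW2
    have hW' := comm_all (k := GW2.length) hg' hT mGW2
    have hcov' : ∀ x ∈ _root_.Subgroup.closure {y : N | ∃ i < GW2.length, y = g' i}, _ := fun x hx => grp_cov hψ hg' QW2 NW2 hx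
    have hcard' : 16 ≤ Nat.card (closure {y : N | ∃ i < GW2.length, y = g' i}) := by
      have h1 := card_ge hg' QW2 (bs := [0]) rfl kGW2
      rwa [lGW2] at h1
    obtain ⟨z, hzW, hzA, hz1, hz2⟩ := exists_inv h hna ht ht2 hW' (fun x hx => by
      obtain ⟨a, -, -, -, h4⟩ := hcov' x hx
      exact h4) hcard' (by omega)
    obtain ⟨a', ha', hza, hTz, -⟩ := hcov' z hzW
    rcases CW2 a' ha' with h1 | h1 | h1
    · rw [h1] at hza
      exact hz1 hza
    · exact ne_of_NI h1 hTz hz2
    · obtain ⟨p, hp⟩ := fix_of_FP h1 hTz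
      exact killA hna h hzA (orderOf_two hz2 hz1) hp

theorem killE_N (h : IF A Γ) {s : N} (hs : s ∈ A) (ho : orderOf s = 2) : False := by
  obtain ⟨b, hb, r, hr | hr, hbr⟩ := inv_cases ho
  · obtain ⟨A', Γ', h2, h3⟩ := transport h hs hb hbr
    exact twoA hna h2 hr h3
  · obtain ⟨A', Γ', h2, h3⟩ := transport h hs hb hbr
    exact twoB hna h2 hr h3

end

/-- all automorphisms are inner -/
theorem inner_N (a : MulAut N) : ∃ x : N, a = MulAut.conj x := by
  let e : N ≃* SporRec.Co3.Chain.G3 := eN.symm.trans SporRec.Co3.Model.equivCo3.symm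
  obtain ⟨g, hg⟩ := KFacts.Co3.Out.aut ((e.symm.trans a).trans e)
  refine ⟨e.symm g, ?_⟩
  ext1 x
  have h1 := hg (e x)
  have h2 : e (a (e.symm (e x))) = g * e x * g⁻¹ := h1
  rw [MulEquiv.symm_apply_apply] at h2
  have h3 := congrArg e.symm h2
  rw [MulEquiv.symm_apply_apply, map_mul, map_mul, map_inv, MulEquiv.symm_apply_apply] at h3
  rw [h3, MulAut.conj_apply]

theorem kill_N [IsSimpleGroup N] (hna : ∃ a b : N, a * b ≠ b * a) : Kill N := by
  intro A Γ h
  obtain ⟨σ, hσ, ho, -⟩ := h.ex
  obtain ⟨a, rfl⟩ := inner_N σ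
  have ha := (h.conj a).1 hσ
  rw [Cfsg.Agent.H999.IFB.orderOf_conj hna] at ho
  exact killE_N hna h ha ho

/-- **Row `Co3` of S5719.** -/
theorem row_co3 : Row fun T => Spor.IsoCo3 T := by
  rintro T _ _ _ hn ⟨e⟩ A Γ hA
  let e' : T ≃* N := e.trans eN
  have hs : IsSimpleGroup N := (MulEquiv.isSimpleGroup_congr e').1 inferInstance
  have hna : ∃ a b : N, a * b ≠ b * a := by
    by_contra hcon
    push Not at hcon
    apply hn
    refine ⟨⟨fun a b => e'.injective ?_⟩⟩
    rw [map_mul, map_mul]
    exact hcon _ _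
  exact Kill.congr e'.symm (kill_N hna) A Γ hA

end Cfsg.Agent.H895.CoIF
end

-- part: H979/IFx/Fi24Four
section
/-!
# S5719, `Fi24'`: the 378 vectors of `R / ⟨z⟩` and the linear functionals (helper979)

`vl i` (`i < 378`) : the codes; `C k` : the `k`-th coordinates of the 378 vectors, packed in base 1024.
`count_le` : at most 192 of the 378 vectors are outside a given hyperplane.
-/

set_option autoImplicit false
set_option maxRecDepth 100000

namespace Cfsg.Agent.H979.IFx.Four

def OL : List ℕ := [1, 2, 3, 4, 5, 8, 10, 12, 15, 16, 20, 21, 32, 40, 42, 48, 60, 63, 64, 80, 84, 85, 128, 160, 168, 170, 192, 240, 252, 255, 256, 272, 276, 277, 321, 324, 325, 336, 340, 341, 354, 371, 387, 396, 399, 435, 450, 456, 458, 482, 512, 544, 552, 554, 579, 588, 591, 627, 642, 648, 650, 657, 672, 680, 682, 691, 705, 708, 709, 721, 768, 816, 828, 831, 834, 840, 842, 866, 897, 900, 901, 913, 963, 972, 975, 977, 994, 1008, 1020, 1023, 1024, 1028, 1029, 1041, 1044, 1045, 1059, 1074, 1123, 1139, 1142, 1143, 1169, 1172, 1173, 1188,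 1189, 1192, 1194, 1197, 1198, 1201, 1213, 1214, 1216, 1220, 1221, 1252, 1253, 1256, 1258, 1261, 1262, 1264, 1272, 1274, 1314, 1318, 1319, 1330, 1345, 1360, 1378, 1382, 1383, 1395, 1398, 1399, 1409, 1457, 1469, 1470, 1488, 1520, 1528, 1530, 1536, 1540, 1541, 1568, 1580, 1583, 1588, 1589, 1593, 1595, 1596, 1599, 1616, 1632, 1644, 1647, 1728, 1732, 1733, 1744, 1809, 1812, 1813, 1825, 1833, 1835, 1844, 1845, 1849, 1851, 1852, 1855, 1857, 1889, 1897, 1899, 1921, 1937, 1940, 1941, 2048, 2056, 2058, 2067, 2082, 2088, 2090, 2097, 2112, 2120, 2122, 2128, 2140, 2143, 2166, 2167, 2168, 2170, 2172, 2175, 2193, 2201, 2203, 2225, 2258, 2262, 2263, 2274, 2280, 2282, 2294, 2295, 2296, 2298, 2300, 2303, 2324, 2325, 2328, 2330, 2333, 2334, 2338, 2344, 2346, 2354, 2365, 2366, 2434, 2482, 2493, 2494, 2498, 2530, 2536, 2538, 2579, 2611, 2617, 2619, 2640, 2652, 2655, 2656, 2690, 2705, 2713, 2715, 2720, 2739, 2745, 2747, 2754, 2770, 2774, 2775, 2816, 2824, 2826, 2836, 2837, 2840, 2842, 2845, 2846, 2864, 2868, 2869, 2880, 2888, 2890,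 2912, 2976, 2992, 2996, 2997, 3072, 3084, 3087, 3090, 3105, 3123, 3132, 3135, 3156, 3157, 3161, 3163, 3164, 3167, 3171, 3177, 3179, 3187, 3196, 3199, 3200, 3212, 3215, 3220, 3221, 3225, 3227, 3228, 3231, 3232, 3236, 3237, 3282, 3298, 3309, 3310, 3328, 3340, 3343, 3344, 3352, 3354, 3366, 3367, 3368, 3370, 3372, 3375, 3456, 3468, 3471, 3504, 3536, 3544, 3546, 3568, 3603, 3606, 3607, 3622, 3623, 3624, 3626, 3628, 3631, 3635, 3644, 3647, 3651, 3699, 3708, 3711, 3779, 3795, 3798, 3799, 3857, 3869, 3870, 3873, 3907, 3939, 3945, 3947, 4000, 4004, 4005, 4016, 4035, 4049, 4061, 4062, 4066, 4077, 4078, 4080]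

def C (k : ℕ) : ℕ := ([0x40000001004010000100000004010040100400004010040000401004000040100400004010000000001000010000100000000000000100000004000000000400000000000100000000010000000400000010000100401000010000000400004010040100400004010040000400004010000100000004000000000000000000040000000004000000100000000000040000000004010040000401004000000100000004010040100000000000000100000000010000000000000010000000400004000000000400000000000100000004010040100400000000040000400000000000000400000000040000000004000040100401004010040000401004000040100401000010000100000004000000000400004010040000400000010000000000000000000100401004000040100000000010000100000000000000000400000010000100000000010040000400000010000100001004000040100001004000040100000004000000000401000010040100001000000000000400000000040100001004000000000400000000040100001000000000000000000000040100001004000040000001000010040000000004000000000000000000040000000004000000000000004000000100000000010000100001, 0x10000100400000010000000000004000040100001000000040100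401004000040100400004010000100001004010040100001000000000100000004000040000401004000000100000004000040100000000010000100000000010000000400004010000100400004000000000400004000040100000000000000000001000000000000001000010000000001000000040100401004000040000400000010000100000004000040100400004010040000401004000040100001004000040000000004000040000401004000040100401000010000000400004000040100400000010000000001000010040100000000000000000400000000040000400000000040000000000000000000000004000000000400004000000000400000000000000400000000040000000004010040100401000000040100401004000000100001000000000000000004000000100001000000000000000004010040100401000000000000000004000000100001000010000000000004010000100400000000000000000004010000000001000010040100001004000000000401000010040100001004010000000000000000000000000004000000000400000000000000000004000000100000000000000100001000000000100400, 0x1004000040100000000010040000000000000000100400004010000000401000000040100001004000000100401004000000000000000010040000401000000040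1000000000100400004010000000401000010040000001004010040000401000000000000401000000040100401000000000100400004010000000000000000040100001004000000100400000000040100000000000000000000000000000100400000000000000000000000040100000004010000000000004010000000401004010000000401000000000100400000000000000401000000040100401000000000000000000000000000000004010000000000000000040100000004010000000001004000000100400004010000000401000000040100401000010040000000000000040100000004010000100400000000000100400000000000100400000010040100400004010000100400000010040100400004010000000000004010000100400004010000000001004000000100400000000000000401000000000100400000000000000000000000000100400000000000000000000000000100400000000040100001004000040100000004010000000000000000040100000004010000000000004010000100400000010040000000, 0x100400004010000000000000000040100000000010040000000000000040100000004010000100401004000000000000000010040000001004000040100401000000040100001004000040100000000000000100401004000000100400004010000100400004010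04010000000401000000000100400000000000000001004000000000001004010040000001004000000000000004010000000401000000000100400004010000000401000000040100000004010000100400004010040100000004010040100000004010000000000000010040000401004010000000401000010040000001004000000100400000000000000401000000040100401000000040100000000000000000000004010000000401004010000000401000000000000401000000040100000000000000000000000000000000000004010000100401004000000000000004010000100401004000000000000000000000000000000000000000000004010000000001004000000000000000010040000401000000000000000000010040000001004000000100400004010000000001004000000100400000000000000000000000000000000004010000000401000000000000000004010000100400000000000100401004000000000000, 0x40000000004010040000400000000000000000000010040100401004000040100400004010040000000000000000100401004010040100400000000000000000000000040100400000000000000001000000000100401004010040000000004010040000000004010040100401004010040000400000000040100400000000000000401004010040100401004000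00000040100400004010040000401004000000100401004010040100000000000040100400004010040000000004010040100401004010040100401000000000100401004010040100401004010040100401004000000000400000000040000000004010040000000000000040100401004010000000001004010040000000000000000100401004010040100000000000000000401004010040100400004010040000000004000040000000004010040000000000000000000000004010040000000000000000100401004010040000400004010040000000004010040000400000000040000000000000000000401004000040000000004000000000400000000040000000000000000000000000000040000000004000040100400000000040100400004010040000000000000040100400004010040000000004010040000000000000000000000, 0x40100401000000000000401004010040100400004000000000000000000040100400004010040100401004010040000000004000000000400000000040100401004010000000000000000040100400004010040000000000000000000000004010040100401000000000000000004010040100000000000040100401004000000000401004000000000000000000000000000000000040100401000000000000400000000040100400004010040000401004000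04010040100401000000000000000004010040100401004010040000000004000000000401004010040100000000000000000401004010000000000000000000000401004000040100401004010040100400000000000000000004010040000401004010040100401004000000000401004000040100400004010040100401000000040100401004010040100401004010040000000004010040100401004010040000000004010040100401000000000000000004010040100000000000000000000004000000000401004000000000000004010040100000000000040000000004010040000400000000040000000004010000000000000000000000000004010040000401004000000000000004010040100401000000000000000000000000000000, 0x4010040100401004010000000000004010040100000000000040100401004010040100000000000000000000000000000000401004010000000000000000000000000000000000000000004010040100000000000000000000000000000000401004010040100401004010040100000000000000000000000000000000401004010000000000000000000000000000000040100401000000000000000000000040100401000000000000401004010000000000000000000000000000000000000000004010040100401004010040100401000000000000401004010040100401004010040100000000000000000000000000000000401004010000000000000000000000000000000040100401004010040100000000000000000000000000000000401004010000000000004010040100401004010000000000004010040100401004010040100401000000000000000000000000000000004010040100000000000000000000004010040100401004010000000000004010040100000000000040100401000000000000000000000040100401000000000000401004010000000000004010040100401004010000000000004010040100000000000040100401000000000000000000000000000000000000000000000,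 0x4010040100401004010040100401000000000000000000000040100401000000000000000000000000000000000000000000401004010040100401000000000000000000000000000000004010040100401004010040100401004010040100000000000000000000000000000000000000000000000000004010040100000000000000000000000000000000000000000040100401004010040100401004010000000000000000000000401004010040100401000000000000000000000000000000004010040100401004010040100401004010040100000000000000000000000000000000000000000000000000004010040100000000000000000000000000000000000000000040100401000000000000000000000000000000000000000000401004010040100401000000000000000000000000000000004010040100401004010040100401004010040100401004010040100401000000000000000000000000000000004010040100401004010040100401000000000000000000000040100401004010040100401004010000000000000000000000401004010040100401000000000000000000000000000000004010040100401004010000000000000000000000000000000000000000000000000000000, 0x401004010040100401004010040100401004010040100401000000000000000000000000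0000000000000000000000000000401004010040100401004010040100401004010040100401000000000000000000000000000000000000000000000000000000000000000000000000000000000000000000004010040100401004010040100401004010040100401004010000000000000000000000000000000000000000000000000000401004010040100401004010040100401004010040100401000000000000000000000000000000000000000000000000000000000000000000000000000000000000000000004010040100401004010040100401004010040100401004010000000000000000000000000000000000000000000000000000401004010040100401004010040100401004010040100401000000000000000000000000000000000000000000000000000000000000000000000000000000000000000000004010040100401004010040100401004010040100401004010000000000000000000000000000000000000000000000000000401004010040100401004010040100401004010040100401000000000000000000000000000000000000000000000000000000000000000000000000000, 0x401004010040100401004010040100401004010040100401004010040100401004010040100401004010040100401004010000000000000000000000000000000000000000000000000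0000000000000000000000000000000000000000000000000000000000000000000000000000000000000000000004010040100401004010040100401004010040100401004010040100401004010040100401004010040100401004010040100000000000000000000000000000000000000000000000000000000000000000000000000000000000000000000000000000000000000000000000000000000000000000000004010040100401004010040100401004010040100401004010040100401004010040100401004010040100401004010040100000000000000000000000000000000000000000000000000000000000000000000000000000000000000000000000000000000000000000000000000000000000000000000004010040100401004010040100401004010040100401004010040100401004010040100401004010040100401004010040100000000000000000000000000000000000000000000000000000000000000000000000000000000000000000000000000000000000000000000000000000, 0x401004010040100401004010040100401004010040100401004010040100401004010040100401004010040100401004010040100401004010040100401004010040100401004010040100401004010040100401004010040100401004010040100401004010040100401004010040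1004010040100401000000000000000000000000000000000000000000000000000000000000000000000000000000000000000000000000000000000000000000000000000000000000000000000000000000000000000000000000000000000000000000000000000000000000000000000000000000000000000000000000004010040100401004010040100401004010040100401004010040100401004010040100401004010040100401004010040100401004010040100401004010040100401004010040100401004010040100401004010040100401004010040100401004010040100401004010040100401004010040100401000000000000000000000000000000000000000000000000000000000000000000000000000000000000000000000000000000000000000000000000000000000000000000000000000000000000000000000000000000000000000000000000000000000000000000000000000000000, 0x401004010040100401004010040100401004010040100401004010040100401004010040100401004010040100401004010040100401004010040100401004010040100401004010040100401004010040100401004010040100401004010040100401004010040100401004010040100401004010040100401004010040100401004010040100401004010040100401004010040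1004010040100401004010040100401004010040100401004010040100401004010040100401004010040100401004010040100401004010040100401004010040100401004010040100401004010040100401004010040100401000000000000000000000000000000000000000000000000000000000000000000000000000000000000000000000000000000000000000000000000000000000000000000000000000000000000000000000000000000000000000000000000000000000000000000000000000000000000000000000000000000000000000000000000000000000000000000000000000000000000000000000000000000000000000000000000000000000000000000000000000000000000000000000000000000000000000000000000000000000000000000000000000000000000000000000000000000000] : List ℕ).getD k 0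

/-- packing in base 1024 -/
def pk : List ℕ → ℕ → ℕ
  | [], _ => 0
  | v :: l, k => Nat.add (Nat.mod (Nat.shiftRight v k) 2) (Nat.mul 1024 (pk l k))

theorem C_eq : ∀ k < 12, pk OL k = C k := by decide +kernel

def chk : ℕ → ℕ → Bool
  | 0, P => Nat.ble (Nat.mod P 1023) 192
  | k + 1, P => chk k P && chk k (Nat.xor P (C k))

theorem chk_true : chk 12 0 = true := by decide +kernel

/-! ### Packed lists of bits -/

def pkb (p : ℕ → Bool) : List ℕ → ℕ
  | [] => 0
  | v :: l => (p v).toNat + 1024 * pkb p l

theorem pk_eq (k : ℕ) : ∀ l : List ℕ, pk l k = pkb (fun v => v.testBit k) l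
  | [] => rfl
  | v :: l => by
    show Nat.add (Nat.mod (Nat.shiftRight v k) 2) (Nat.mul 1024 (pk l k)) = _
    rw [pk_eq k l]
    show v >>> k % 2 + 1024 * _ = (v.testBit k).toNat + 1024 * _
    congr 1
    rw [Nat.testBit_eq_decide_div_mod_eq, Nat.shiftRight_eq_div_pow]
    rcases Nat.mod_two_eq_zero_or_one (v / 2 ^ k) with h | h <;> simp [h]

theorem xor_pack (a b x y : ℕ) (ha : a < 1024) (hb : b < 1024) :
    (a + 1024 * x) ^^^ (b + 1024 * y) = (a ^^^ b) + 1024 * (x ^^^ y) := by
  have hab : a ^^^ b < 2 ^ 10 := Nat.xor_lt_two_pow ha hb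
  have h1 : ((a + 1024 * x) ^^^ (b + 1024 * y)) % 2 ^ 10 = a ^^^ b := by
    rw [Nat.xor_mod_two_pow]
    congr 1 <;> omega
  have h2 : ((a + 1024 * x) ^^^ (b + 1024 * y)) / 2 ^ 10 = x ^^^ y := by
    rw [Nat.xor_div_two_pow]
    congr 1 <;> (clear * - ha hb; omega)
  omega

theorem pkb_xor (p q : ℕ → Bool) : ∀ l : List ℕ, pkb p l ^^^ pkb q l = pkb (fun v => xor (p v) (q v)) l
  | [] => Nat.xor_self 0
  | v :: l => by
    show ((p v).toNat + 1024 * pkb p l) ^^^ ((q v).toNat + 1024 * pkb q l) = _
    rw [xor_pack _ _ _ _ (by cases p v <;> decide) (by cases q v <;> decide), pkb_xor p q l]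
    show _ = (xor (p v) (q v)).toNat + 1024 * _
    congr 1
    cases p v <;> cases q v <;> rfl

theorem pkb_mod (p : ℕ → Bool) : ∀ l : List ℕ, pkb p l % 1023 = l.countP p % 1023
  | [] => rfl
  | v :: l => by
    show ((p v).toNat + 1024 * pkb p l) % 1023 = _
    have h := pkb_mod p l
    rw [List.countP_cons]
    cases p v <;> simp <;> omega

/-- the parity of the functional `ε` on `v` -/
def par (ε : ℕ → Bool) (v : ℕ) : ℕ → Bool
  | 0 => false
  | k + 1 => xor (par ε v k) (ε k && v.testBit k)

def PX (ε : ℕ → Bool) : ℕ → ℕ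
  | 0 => 0
  | k + 1 => if ε k = true then PX ε k ^^^ C k else PX ε k

theorem PX_eq (ε : ℕ → Bool) : ∀ k ≤ 12, PX ε k = pkb (fun v => par ε v k) OL
  | 0, _ => by
    have : ∀ l : List ℕ, pkb (fun v => par ε v 0) l = 0 := by
      intro l
      induction l with
      | nil => rfl
      | cons v l ih =>
        show 0 + 1024 * pkb _ l = 0
        rw [ih]
    exact (this OL).symm
  | k + 1, hk => by
    have h1 := PX_eq ε k (by omega)
    show (if ε k = true then PX ε k ^^^ C k else PX ε k) = _
    rw [h1, ← C_eq k (by omega), pk_eq, pkb_xor]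
    cases hε : ε k
    · rw [if_neg (by decide)]
      congr 1
      funext v
      simp [par, hε]
    · rw [if_pos rfl]
      congr 1
      funext v
      simp [par, hε]

theorem chk_spec (ε : ℕ → Bool) : ∀ (k P : ℕ), chk k P = true → (P ^^^ PX ε k) % 1023 ≤ 192
  | 0, P, h => by
    show (P ^^^ 0) % 1023 ≤ 192
    rw [Nat.xor_zero]
    exact Nat.le_of_ble_eq_true h
  | k + 1, P, h => by
    have h1 : (chk k P && chk k (Nat.xor P (C k))) = true := h
    rw [Bool.and_eq_true] at h1
    show (P ^^^ (if ε k = true then PX ε k ^^^ C k else PX ε k)) % 1023 ≤ 192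
    split_ifs with h2
    · have h3 := chk_spec ε k _ h1.2
      have h4 : Nat.xor P (C k) = P ^^^ C k := rfl
      rw [h4, Nat.xor_assoc, Nat.xor_comm (C k)] at h3
      exact h3
    · exact chk_spec ε k _ h1.1

/-- **At most 192 of the 378 vectors are outside a hyperplane.** -/
theorem count_le (ε : ℕ → Bool) : OL.countP (fun v => par ε v 12) ≤ 192 := by
  have h1 := chk_spec ε 12 0 chk_true
  rw [Nat.zero_xor, PX_eq ε 12 le_rfl, pkb_mod] at h1
  have h2 : OL.countP (fun v => par ε v 12) ≤ OL.length := List.countP_le_length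
  have h3 : OL.length = 378 := by decide +kernel
  rw [h3] at h2
  rwa [Nat.mod_eq_of_lt (by omega)] at h1

/-! ### Characters -/

theorem addChar_pm {Q : Type*} [AddCommGroup Q] (h2 : ∀ q : Q, q + q = 0) (ψ : AddChar Q ℂ) (q : Q) :
    ψ q = 1 ∨ ψ q = -1 := by
  have h1 : ψ q * ψ q = 1 := by rw [← AddChar.map_add_eq_mul, h2, AddChar.map_zero_eq_one]
  exact mul_self_eq_one_iff.1 h1

open Classical in
theorem sum_eq {Q : Type*} [AddCommGroup Q] (h2 : ∀ q : Q, q + q = 0) (ψ : AddChar Q ℂ) :
    ∀ l : List Q, (l.map ψ).sum = l.length - 2 * (l.countP fun q => decide (ψ q ≠ 1) : ℕ)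
  | [] => by simp
  | q :: l => by
    rw [List.map_cons, List.sum_cons, sum_eq h2 ψ l, List.length_cons, List.countP_cons]
    rcases addChar_pm h2 ψ q with h | h
    · rw [h]
      simp only [_root_.ne_eq, _root_.decide_not, _root_.Nat.cast_add, _root_.Nat.cast_one, _root_.not_true_eq_false, _root_.decide_false, _root_.Bool.false_eq_true, ↓ _root_.reduceIte, _root_.add_zero]
      ring
    · have h3 : ψ q ≠ 1 := by rw [h]; norm_num
      rw [h]
      simp only [ne_eq, decide_not, Nat.cast_add, Nat.cast_one]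
      rw [if_pos (by simp; norm_num)]
      push_cast
      ring

open Classical in
theorem dual_bound {Q : Type*} [AddCommGroup Q] [Fintype Q] (l : List Q) (hl : ∀ q ∈ l, q ≠ 0)
    (h2 : ∀ q : Q, q + q = 0) {N : ℕ}
    (hN : ∀ ψ : AddChar Q ℂ, (l.countP fun q => decide (ψ q ≠ 1)) ≤ N) :
    l.length * Fintype.card Q ≤ 2 * (N * (Fintype.card Q - 1)) := by
  have h3 : ∑ ψ : AddChar Q ℂ, (l.map ψ).sum = 0 := by
    have h4 : ∀ l : List Q, (∀ q ∈ l, q ≠ 0) → ∑ ψ : AddChar Q ℂ, (l.map ψ).sum = 0 := by
      intro l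
      induction l with
      | nil => intro _; simp
      | cons q l ih =>
        intro hl
        simp only [List.map_cons, List.sum_cons]
        rw [Finset.sum_add_distrib, ih (fun q hq => hl q (List.mem_cons_of_mem _ hq)), add_zero,
          AddChar.sum_apply_eq_ite, if_neg (hl q List.mem_cons_self)]
    exact h4 l hl
  simp only [sum_eq h2] at h3
  rw [Finset.sum_sub_distrib, sub_eq_zero, Finset.sum_const, Finset.card_univ, AddChar.card_eq, ← Finset.mul_sum,
    nsmul_eq_mul] at h3
  have h4 : Fintype.card Q * l.length = 2 * ∑ ψ : AddChar Q ℂ, (l.countP fun q => decide (ψ q ≠ 1)) := by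
    exact_mod_cast h3
  have h5 : ∑ ψ : AddChar Q ℂ, (l.countP fun q => decide (ψ q ≠ 1)) ≤ N * (Fintype.card Q - 1) := by
    rw [← Finset.sum_erase (s := Finset.univ) (a := (0 : AddChar Q ℂ))]
    · refine (Finset.sum_le_card_nsmul _ _ N fun ψ _ => hN ψ).trans ?_
      rw [Finset.card_erase_of_mem (Finset.mem_univ _), Finset.card_univ, AddChar.card_eq, smul_eq_mul, mul_comm]
    · rw [List.countP_eq_zero]
      intro q _
      simp
  rw [mul_comm, h4]
  exact Nat.mul_le_mul_left 2 h5

end Cfsg.Agent.H979.IFx.Four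
end

-- part: H979/IFx/SmallOrb
section
/-!
# A normal subgroup `R` and a subgroup `B` of small index: small orbits in `R ⊓ B` (helper979)
-/

set_option autoImplicit false

namespace Cfsg.Agent.H979.IFx.SmallOrb

open Subgroup

variable {G : Type*} [Group G] [Finite G]

theorem key (R B : Subgroup G) [R.Normal] : Nat.card R * (B ⊔ R).index = Nat.card ↥(R ⊓ B) * B.index := by
  have e1 : R.relIndex (B ⊔ R) = R.relIndex B := relIndex_sup_right B R
  have c1 : Nat.card R * R.relIndex (B ⊔ R) = Nat.card ↥(B ⊔ R) := by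
    have h := (R.subgroupOf (B ⊔ R)).card_mul_index
    rwa [Nat.card_congr (subgroupOfEquivOfLe (le_sup_right : R ≤ B ⊔ R)).toEquiv] at h
  have c2 : Nat.card ↥(R ⊓ B) * R.relIndex B = Nat.card B := by
    have h := (R.subgroupOf B).card_mul_index
    rw [← inf_subgroupOf_right R B] at h
    rw [Nat.card_congr (subgroupOfEquivOfLe (inf_le_right : R ⊓ B ≤ B)).toEquiv] at h
    rw [inf_subgroupOf_right R B] at h
    exact h
  have c3 := (B ⊔ R).card_mul_index
  have c4 := B.card_mul_index
  rw [← c1, e1] at c3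
  rw [← c2] at c4
  have hk : 0 < R.relIndex B := Nat.pos_of_ne_zero (index_ne_zero_of_finite)
  apply Nat.eq_of_mul_eq_mul_left hk
  calc R.relIndex B * (Nat.card R * (B ⊔ R).index) = Nat.card R * R.relIndex B * (B ⊔ R).index := by ring
    _ = Nat.card ↥(R ⊓ B) * R.relIndex B * B.index := by rw [c3, c4]
    _ = _ := by ring

theorem ncard_orb_le {Y : Subgroup G} {u : G} {S : Set G} (hS : ∀ y ∈ Y, y * u * y⁻¹ ∈ S) :
    {b | ∃ g : G, g * u * g⁻¹ = b}.ncard ≤ Y.index * S.ncard := by
  let f : (G ⧸ Y) × S → G := fun p => p.1.out * p.2 * p.1.out⁻¹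
  have h1 : {b | ∃ g : G, g * u * g⁻¹ = b} ⊆ Set.range f := by
    rintro _ ⟨g, rfl⟩
    have h2 : (g : G ⧸ Y).out⁻¹ * g ∈ Y := by
      rw [← QuotientGroup.eq]
      exact Quotient.out_eq' _
    refine ⟨⟨(g : G ⧸ Y), ⟨_, hS _ h2⟩⟩, ?_⟩
    show (g : G ⧸ Y).out * ((g : G ⧸ Y).out⁻¹ * g * u * ((g : G ⧸ Y).out⁻¹ * g)⁻¹) * (g : G ⧸ Y).out⁻¹ = _
    group
  calc {b | ∃ g : G, g * u * g⁻¹ = b}.ncard ≤ (Set.range f).ncard := Set.ncard_le_ncard h1 (Set.toFinite _)
    _ ≤ Nat.card ((G ⧸ Y) × S) := by
      rw [← Nat.card_coe_set_eq]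
      exact Finite.card_range_le f
    _ = Y.index * S.ncard := by
      rw [Nat.card_prod, Subgroup.index, Nat.card_coe_set_eq]

/-- **Small orbits.** -/
theorem exists_small {R B : Subgroup G} [R.Normal] {z : G} (hR : Nat.card R = 8192)
    (com : ∀ r ∈ R, ∀ s ∈ R, r * s = s * r ∨ r * s = z * (s * r)) (hzR : z ∈ R) (hzB : z ∈ B)
    (hB : B.index ≤ 383) (hU : Nat.card ↥(R ⊓ B) ≤ 128) :
    ∃ u ∈ R ⊓ B, u ≠ 1 ∧ u ≠ z ∧ {b | ∃ g : G, g * u * g⁻¹ = b}.ncard ≤ 756 := by
  have h1 := key R B
  rw [hR] at h1
  have h0 : 0 < (B ⊔ R).index := Nat.pos_of_ne_zero index_ne_zero_of_finite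
  have h2 : Nat.card ↥(R ⊓ B) * B.index ≤ 128 * 383 := Nat.mul_le_mul hU hB
  have h3 : (B ⊔ R).index ≤ 5 := by omega
  have h4 : 2 < Nat.card ↥(R ⊓ B) := by
    by_contra hcon
    have h5 : Nat.card ↥(R ⊓ B) * B.index ≤ 2 * 383 := Nat.mul_le_mul (by omega) hB
    omega
  -- the element
  obtain ⟨u, hu, hu1, huz⟩ : ∃ u ∈ R ⊓ B, u ≠ 1 ∧ u ≠ z := by
    by_contra hcon
    push Not at hcon
    have h5 : ((R ⊓ B : Subgroup G) : Set G) ⊆ {1, z} := by
      intro x hx
      by_cases hx1 : x = 1
      · exact Or.inl hx1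
      · exact Or.inr (hcon x hx hx1)
    have h6 : ((R ⊓ B : Subgroup G) : Set G).ncard ≤ ({1, z} : Set G).ncard := Set.ncard_le_ncard h5 (Set.toFinite _)
    have h7 : ({1, z} : Set G).ncard ≤ 2 := (Set.ncard_insert_le _ _).trans (by rw [Set.ncard_singleton])
    have h8 : ((R ⊓ B : Subgroup G) : Set G).ncard = Nat.card ↥(R ⊓ B) := rfl
    omega
  refine ⟨u, hu, hu1, huz, ?_⟩
  -- `B ⊔ R` normalises `R ⊓ B`
  have hn : ∀ y ∈ B ⊔ R, ∀ w ∈ R ⊓ B, y * w * y⁻¹ ∈ R ⊓ B := by
    have hzw : ∀ y w : G, w ∈ R ⊓ B → y ∈ R → y * w * y⁻¹ ∈ R ⊓ B := by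
      intro y w hw hy
      rcases com y hy w hw.1 with h | h
      · rwa [h, mul_inv_cancel_right]
      · rw [h]
        have : z * (w * y) * y⁻¹ = z * w := by group
        rw [this]
        exact mul_mem ⟨hzR, hzB⟩ hw
    intro y hy
    rw [← SetLike.mem_coe, Subgroup.mul_normal B R, Set.mem_mul] at hy
    obtain ⟨b, hb, r, hr, rfl⟩ := hy
    intro w hw
    have h5 := hzw r w hw hr
    have h6 : b * r * w * (b * r)⁻¹ = b * (r * w * r⁻¹) * b⁻¹ := by group
    rw [h6]
    refine ⟨Subgroup.Normal.conj_mem inferInstance _ h5.1 b, ?_⟩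
    exact B.mul_mem (B.mul_mem hb h5.2) (B.inv_mem hb)
  have h5 := ncard_orb_le (Y := B ⊔ R) (u := u) (S := ((R ⊓ B : Subgroup G) : Set G)) (fun y hy => hn y hy u hu)
  have h6 : ((R ⊓ B : Subgroup G) : Set G).ncard = Nat.card ↥(R ⊓ B) := rfl
  rw [h6] at h5
  have h7 : (B ⊔ R).index * Nat.card ↥(R ⊓ B) ≤ 5 * 128 := Nat.mul_le_mul h3 hU
  omega

end Cfsg.Agent.H979.IFx.SmallOrb
end

-- part: H979/IFx/Fi24B
section
/-!
# S5719, `Fi24'`: no involution of class 2B (helper979)
-/

set_option autoImplicit false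
set_option linter.unusedSectionVars false

namespace Cfsg.Agent.H979.IFx.Fi24B

open Subgroup Cfsg Cfsg.Spor
open Cfsg.Agent.H209.Fxy
open Cfsg.Agent.LargeExtra.Model Cfsg.Agent.LargeExtra.Pres Cfsg.Agent.KFacts.Codes
open Cfsg.Agent.KFacts.FiTF Cfsg.Agent.KFacts.FiTF.Lin Cfsg.Agent.KFacts.FiTF.OrbSys
open Cfsg.Agent.H979.IFx.Four

theorem OL_ok : ∀ v ∈ OL, v < 4096 ∧ Om.OM.testBit v = true := by
  have h : (OL.all fun v => Nat.blt v 4096 && Om.OM.testBit v) = true := by decide +kernel
  intro v hv
  have h1 := List.all_eq_true.1 h v hv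
  rw [Bool.and_eq_true] at h1
  exact ⟨Nat.le_of_ble_eq_true h1.1, h1.2⟩

theorem OL_length : OL.length = 378 := by decide +kernel

section four

variable {F : Type*} [Group F] [Finite F] {z : F} {x y : ℕ → F} {E : Subgroup F} (h : Sys z x y E)
include h

theorem cod_om {v : ℕ} (hv : v ∈ OL) : cod 12 z x v ∈ OmSet 12 Om.OM z x := by
  obtain ⟨h1, h2⟩ := OL_ok v hv
  refine ⟨v, by norm_num; omega, ?_, rfl⟩
  rwa [Nat.mod_eq_of_lt (by norm_num; omega)]

/-- **A subgroup of `R` containing `z` and none of the 756 has order at most 128.** -/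
theorem card_le {U : Subgroup F} (hU : U ≤ RG 12 z x) (hz : z ∈ U) (hO : ∀ u ∈ U, u ∉ OmSet 12 Om.OM z x) :
    Nat.card U ≤ 128 := by
  classical
  set R := RG 12 z x with hR
  set V := U.subgroupOf R with hV
  have hcom : ∀ r ∈ R, ∀ s ∈ R, r * s = s * r ∨ r * s = z * (s * r) := fun r hr s hs => RG_comm h.rel Om.tri hr hs
  have hn : V.Normal := by
    constructor
    rintro ⟨u, hu⟩ hu' ⟨r, hr⟩
    rw [mem_subgroupOf] at hu' ⊢
    show r * u * r⁻¹ ∈ U
    rcases hcom r hr u hu with h1 | h1
    · rwa [h1, mul_inv_cancel_right]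
    · rw [h1]
      have h2 : z * (u * r) * r⁻¹ = z * u := by group
      rw [h2]
      exact mul_mem hz hu'
  let iQ : CommGroup (R ⧸ V) := { QuotientGroup.Quotient.group V with
    mul_comm := by
      intro a b
      induction a using QuotientGroup.induction_on with
      | H a =>
        induction b using QuotientGroup.induction_on with
        | H b =>
          rw [← QuotientGroup.mk_mul, ← QuotientGroup.mk_mul, QuotientGroup.eq]
          rw [mem_subgroupOf]
          show (((a : F) * b)⁻¹ * ((b : F) * a)) ∈ U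
          rcases hcom a a.2 b b.2 with h1 | h1
          · rw [h1, inv_mul_cancel]; exact one_mem _
          · rw [h1]
            have h3 : z * ((b : F) * a) = ((b : F) * a) * z := by
              obtain ⟨c, -, hc⟩ := (mem_RG h.rel Om.tri).1 (R.mul_mem b.2 a.2)
              rw [← hc, cod_comm_z h.rel]
            rw [h3, mul_inv_rev, mul_assoc, inv_mul_cancel, mul_one]
            exact inv_mem hz }
  have hmkz : ∀ a b : R, OrbSys.Ez z (a : F) b → (a : R ⧸ V) = (b : R ⧸ V) := by
    intro a b hab
    rw [QuotientGroup.eq, mem_subgroupOf]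
    show (a : F)⁻¹ * b ∈ U
    rcases hab with h1 | h1
    · rw [h1, inv_mul_cancel]; exact one_mem _
    · rw [h1]
      have h3 : z * (b : F) = b * z := by
        obtain ⟨c, -, hc⟩ := (mem_RG h.rel Om.tri).1 b.2
        rw [← hc, cod_comm_z h.rel]
      rw [h3, mul_inv_rev, mul_assoc, inv_mul_cancel, mul_one]
      exact inv_mem hz
  have hmk2 : ∀ q : R ⧸ V, q * q = 1 := by
    intro q
    induction q using QuotientGroup.induction_on with
    | H a =>
      rw [← QuotientGroup.mk_mul, ← QuotientGroup.mk_one]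
      apply hmkz
      rcases RG_sq h.rel Om.tri a.2 with h1 | h1
      · exact Or.inl h1
      · refine Or.inr ?_
        show (a : F) * a = z * 1
        rw [h1, mul_one]
  -- the classes of the codes
  let κ : ℕ → R := fun c => ⟨cod 12 z x c, cod_mem c⟩
  let m : ℕ → Additive (R ⧸ V) := fun c => Additive.ofMul ((κ c : R) : R ⧸ V)
  have hmx : ∀ c d, m (c ^^^ d) = m c + m d := by
    intro c d
    show Additive.ofMul _ = Additive.ofMul _ + Additive.ofMul _
    rw [← ofMul_mul, ← QuotientGroup.mk_mul]
    congr 1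
    symm
    apply hmkz
    exact ez_mul h.rel Om.tri c d
  have hm0 : m 0 = 0 := by
    have h1 := hmx 0 0
    rw [Nat.xor_self] at h1
    exact left_eq_add.1 h1
  let : Fintype (R ⧸ V) := Fintype.ofFinite _
  let : Fintype (Additive (R ⧸ V)) := Fintype.ofFinite _
  have key := dual_bound (Q := Additive (R ⧸ V)) (OL.map m) (by
      intro q hq
      rw [List.mem_map] at hq
      obtain ⟨v, hv, rfl⟩ := hq
      intro h0
      have h1 : ((κ v : R) : R ⧸ V) = 1 := h0
      rw [QuotientGroup.eq_one_iff, mem_subgroupOf] at h1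
      exact hO _ h1 (cod_om h hv))
    (fun q => hmk2 q) (N := 192) (by
      intro ψ
      have hpm := addChar_pm (Q := Additive (R ⧸ V)) (fun q => hmk2 q) ψ
      set ε : ℕ → Bool := fun k => decide (ψ (m (2 ^ k)) ≠ 1) with hε
      have h1 : ∀ v k, ψ (m (v % 2 ^ k)) = if par ε v k = true then -1 else 1 := by
        intro v k
        induction k with
        | zero =>
          rw [pow_zero, Nat.mod_one, hm0, AddChar.map_zero_eq_one]
          rfl
        | succ k ih =>
          have h2 : v % 2 ^ (k + 1) = (v % 2 ^ k) ^^^ (if v.testBit k = true then 2 ^ k else 0) := by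
            apply Nat.eq_of_testBit_eq
            intro i
            rw [Nat.testBit_xor, Nat.testBit_mod_two_pow, Nat.testBit_mod_two_pow]
            rcases lt_trichotomy i k with h3 | rfl | h3
            · split_ifs
              · rw [Nat.testBit_two_pow_of_ne (by omega)]
                simp [h3, show i < k + 1 by omega]
              · simp [h3, show i < k + 1 by omega]
            · by_cases h4 : v.testBit i = true
              · simp [h4]
              · simp [h4]
            · split_ifs
              · rw [Nat.testBit_two_pow_of_ne (by omega)]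
                simp [show ¬ i < k by omega, show ¬ i < k + 1 by omega]
              · simp [show ¬ i < k by omega, show ¬ i < k + 1 by omega]
          rw [h2, hmx, AddChar.map_add_eq_mul, ih]
          by_cases h4 : v.testBit k = true
          · rw [if_pos h4]
            rcases hpm (m (2 ^ k)) with h5 | h5
            · have h6 : ε k = false := by rw [hε]; simp [h5]
              have h7 : par ε v (k + 1) = par ε v k := by simp [par, h6]
              rw [h5, h7, mul_one]
            · have h6 : ε k = true := by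
                rw [hε]
                simp only [ne_eq, decide_not, Bool.not_eq_eq_eq_not, Bool.not_true, decide_eq_false_iff_not, h5]
                norm_num
              have h7 : par ε v (k + 1) = !(par ε v k) := by simp [par, h6, h4]
              rw [h5, h7]
              cases par ε v k <;> simp
          · rw [if_neg h4, hm0, AddChar.map_zero_eq_one, mul_one]
            have h7 : par ε v (k + 1) = par ε v k := by simp [par, h4]
            rw [h7]
      have h2 : (OL.map m).countP (fun q => decide (ψ q ≠ 1)) = OL.countP (fun v => par ε v 12) := by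
        rw [List.countP_map]
        apply List.countP_congr
        intro v hv
        have h3 := h1 v 12
        rw [Nat.mod_eq_of_lt (by have := (OL_ok v hv).1; norm_num; omega)] at h3
        show decide (ψ (m v) ≠ 1) = true ↔ _
        rw [h3]
        cases par ε v 12
        · simp
        · simp only [if_true, decide_eq_true_eq, iff_true]
          norm_num
      rw [h2]
      exact count_le ε)
  rw [List.length_map, OL_length] at key
  have c1 : Fintype.card (Additive (R ⧸ V)) = Nat.card (R ⧸ V) := by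
    rw [← Nat.card_eq_fintype_card]
    rfl
  rw [c1] at key
  have c2 : Nat.card V = Nat.card U := Nat.card_congr (subgroupOfEquivOfLe hU).toEquiv
  have c3 := V.card_mul_index
  have c3' : Nat.card U * Nat.card (R ⧸ V) = 8192 := by
    rw [c2, Subgroup.index, card_RG h.rel Om.tri Om.nondeg h.z1] at c3
    exact c3
  have c4 : 64 ≤ Nat.card (R ⧸ V) := by
    have : 0 < Nat.card (R ⧸ V) := Nat.card_pos
    omega
  by_contra hcon
  have c5 : 129 * 64 ≤ Nat.card U * Nat.card (R ⧸ V) := Nat.mul_le_mul (by omega) c4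
  omega

end four

/-! ### The involution `z` -/

/-- the involution `z` of `Fi24'` -/
def zT : Spor.Fi24' := Abs.zK frame

theorem zT_order : orderOf zT = 2 := by
  refine orderOf_eq_prime ?_ ?_
  · rw [pow_two]
    exact Subtype.ext frame.zz
  · intro h1
    exact frame.z1 (congrArg Subtype.val h1)

theorem index_zT : (centralizer ({zT} : Set Spor.Fi24')).index = 7819305288795 := by
  have := R08.FiTwentyFour.finite_Fi24
  have h2 := KFacts.FiTF.Abs.card_CK KFacts.FiTF.frame
  rw [KFacts.FiTF.Order.card] at h2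
  change Nat.card (centralizer ({zT} : Set Spor.Fi24')) * 2 = _ at h2
  have h3 := (centralizer ({zT} : Set Spor.Fi24')).card_mul_index
  rw [R08.FiTwentyFour.card_commutator] at h3
  have h4 : Nat.card (centralizer ({zT} : Set Spor.Fi24')) = 160526499840 := by omega
  rw [h4] at h3
  omega

/-- **`z ∉ A`** -/
theorem no_zT (hna : ∃ a b : Spor.Fi24', a * b ≠ b * a) [IsSimpleGroup Spor.Fi24']
    {A : Subgroup Spor.Fi24'} {Γ : Subgroup (MulAut Spor.Fi24')} (h : IF A Γ)
    (hno : ∀ a ∈ R08.FiTwentyFour.L, ∀ b ∈ R08.FiTwentyFour.L, a ≠ b → Commute a b →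
      ∀ t : Spor.Fi24', (t : Spor.Fi24) = a * b → t ∉ A) (hz : zT ∈ A) : False := by
  have hfin : Finite Spor.Fi24 := R08.FiTwentyFour.finite_Fi24
  have hFr := frame
  set K : Subgroup Spor.Fi24 := commutator Spor.Fi24 with hK
  set A' : Subgroup Spor.Fi24 := A.map K.subtype with hA'
  have hmemA : ∀ g : Spor.Fi24, g ∈ A' ↔ ∃ t : Spor.Fi24', t ∈ A ∧ (t : Spor.Fi24) = g := fun g => Iff.rfl
  -- the index
  have hEc : Defs.E.subgroupOf K ≤ centralizer ({zT} : Set Spor.Fi24') := by
    intro g hg
    rw [mem_centralizer_singleton_iff]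
    exact Subtype.ext (hFr.Ez _ hg)
  have hidx : A'.relIndex Defs.E ≤ 383 := by
    have h1 := ((H999.IFB.IF.E2' h hna hz zT_order).2.2.2.2 _ hEc).1
    rw [index_zT] at h1
    have h2 : A'.relIndex Defs.E = A.relIndex (Defs.E.subgroupOf K) := by
      rw [← relIndex_map_map_of_injective A (Defs.E.subgroupOf K) K.subtype_injective,
        Subgroup.map_subgroupOf_eq_of_le hFr.EK]
    rw [h2]
    by_contra hcon
    have h3 : 384 ^ 5 ≤ A.relIndex (Defs.E.subgroupOf K) ^ 5 := Nat.pow_le_pow_left (by omega) 5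
    omega
  have hRE := hFr.RE
  have hnR : (Defs.R.subgroupOf Defs.E).Normal := by
    constructor
    rintro ⟨r, hr⟩ hr' ⟨g, hg⟩
    rw [mem_subgroupOf] at hr' ⊢
    exact hFr.norm g (hFr.Ez g hg) r hr'
  have hzA' : Defs.z ∈ A' := (hmemA _).2 ⟨zT, hz, rfl⟩
  have hOmA : ∀ g ∈ A', g ∉ RQ.Om := by
    rintro _ ⟨t, ht, rfl⟩ hg
    obtain ⟨e, f, hef, he⟩ := RQ.om_pair hg
    obtain ⟨h1, h2, h3, h4⟩ := hef.mem
    exact hno e h1 f h2 h4 h3 t he ht
  have hcU : Nat.card ↥(Defs.R ⊓ A') ≤ 128 :=
    card_le RQ.sys (U := Defs.R ⊓ A') inf_le_left ⟨hFr.zR, hzA'⟩ fun u hu => hOmA u hu.2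
  obtain ⟨u, hu, hu1, huz, hun⟩ := SmallOrb.exists_small (R := Defs.R.subgroupOf Defs.E) (B := A'.subgroupOf Defs.E)
    (z := ⟨Defs.z, hRE hFr.zR⟩)
    (by rw [Nat.card_congr (subgroupOfEquivOfLe hRE).toEquiv]; exact hFr.cardR)
    (by
      rintro ⟨r, hr⟩ hr' ⟨s, hs⟩ hs'
      rcases hFr.com r hr' s hs' with h1 | h1
      · exact Or.inl (Subtype.ext h1)
      · exact Or.inr (Subtype.ext h1))
    hFr.zR hzA' hidx
    (by
      have h1 : (Defs.R.subgroupOf Defs.E ⊓ A'.subgroupOf Defs.E) = (Defs.R ⊓ A').subgroupOf Defs.E := rfl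
      rw [h1, Nat.card_congr (subgroupOfEquivOfLe (inf_le_left.trans hRE)).toEquiv]
      exact hcU)
  have h1 := hFr.OmOther (u : Spor.Fi24) hu.1 (fun h1 => hu1 (Subtype.ext h1)) (fun h1 => huz (Subtype.ext h1))
    (hOmA _ hu.2)
  have h2 : {b : Spor.Fi24 | ∃ g ∈ Defs.E, g * (u : Spor.Fi24) * g⁻¹ = b} =
      Subtype.val '' {b : Defs.E | ∃ g : Defs.E, g * u * g⁻¹ = b} := by
    ext b
    constructor
    · rintro ⟨g, hg, rfl⟩
      exact ⟨⟨g, hg⟩ * u * ⟨g, hg⟩⁻¹, ⟨⟨g, hg⟩, rfl⟩, rfl⟩
    · rintro ⟨_, ⟨g, rfl⟩, rfl⟩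
      exact ⟨g, g.2, rfl⟩
  rw [h2, Set.ncard_image_of_injective _ Subtype.val_injective] at h1
  omega

/-! ### Tetrads -/

/-- **No involution of class 2B.** -/
theorem twoB (hna : ∃ a b : Spor.Fi24', a * b ≠ b * a) [IsSimpleGroup Spor.Fi24']
    {A : Subgroup Spor.Fi24'} {Γ : Subgroup (MulAut Spor.Fi24')} (h : IF A Γ)
    (hno : ∀ a ∈ R08.FiTwentyFour.L, ∀ b ∈ R08.FiTwentyFour.L, a ≠ b → Commute a b →
      ∀ t : Spor.Fi24', (t : Spor.Fi24) = a * b → t ∉ A) {t : Spor.Fi24'} {a b c d : Spor.Fi24}
    (ht : R08.TetTwo.IsTet R08.FiTwentyFour.L (t : Spor.Fi24) a b c d) (htA : t ∈ A) : False := by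
  obtain ⟨g, hg, h1, h2, h3, h4⟩ := R08.TetBig.quad R08.TetBigInst.hyp ht (Tet.isTet (t := 0) (by norm_num))
  set k : Spor.Fi24' := ⟨g, hg⟩ with hk
  have h5 : k * t * k⁻¹ = zT := by
    apply Subtype.ext
    show g * (t : Spor.Fi24) * g⁻¹ = Defs.z
    calc g * (t : Spor.Fi24) * g⁻¹ = g * (a * b * c * d) * g⁻¹ := by rw [ht.prod]
      _ = (g * a * g⁻¹) * (g * b * g⁻¹) * (g * c * g⁻¹) * (g * d * g⁻¹) := by group
      _ = Defs.z := by rw [h1, h2, h3, h4, (Tet.isTet (t := 0) (by norm_num)).prod]
  refine no_zT hna (h.map (MulAut.conj k)) ?_ ?_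
  · rintro x hx y hy hne hxy s hs ⟨s', hs', rfl⟩
    have h6 : (k * s' * k⁻¹ : Spor.Fi24') = (MulAut.conj k) s' := rfl
    refine hno (g⁻¹ * x * g) ?_ (g⁻¹ * y * g) ?_ ?_ ?_ s' ?_ hs'
    · have := R08.FiTwentyFour.conj hx g⁻¹
      rwa [inv_inv] at this
    · have := R08.FiTwentyFour.conj hy g⁻¹
      rwa [inv_inv] at this
    · intro h7
      exact hne (by simpa only [_root_.mul_left_inj, _root_.mul_right_inj] using h7)
    · show g⁻¹ * x * g * (g⁻¹ * y * g) = g⁻¹ * y * g * (g⁻¹ * x * g)
      calc g⁻¹ * x * g * (g⁻¹ * y * g) = g⁻¹ * (x * y) * g := by group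
        _ = g⁻¹ * (y * x) * g := by rw [hxy.eq]
        _ = _ := by group
    · have h7 : g * (s' : Spor.Fi24) * g⁻¹ = x * y := hs
      calc (s' : Spor.Fi24) = g⁻¹ * (g * (s' : Spor.Fi24) * g⁻¹) * g := by group
        _ = g⁻¹ * x * g * (g⁻¹ * y * g) := by rw [h7]; group
  · exact ⟨t, htA, h5⟩

end Cfsg.Agent.H979.IFx.Fi24B
end

-- part: H672/IF/Fi24A
section
/-!
# S5719: `Fi24'`, a product of two commuting transpositions in `A` (helper672)

* `fi22_top` : `Fi22` has no proper subgroup of index less than 672 (Cooperstein's bound for `PSU 6 2`);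
* `fi23_top` : the same for `C(a) ∩ G' = Fi23` and index at most 9;
* `twoA` : `ab ∈ A`, then `C(a,b) ≤ A`, `C(a) ≤ A`, `|G' : A| ≤ 87`.
-/

set_option autoImplicit false
set_option maxRecDepth 10000

namespace Cfsg.Agent.H672.IF.Fi24A

open Cfsg Cfsg.Spor Subgroup Cfsg.Agent.R01 Cfsg.Agent.R01.Lifts Cfsg.Agent.R08.FiTwentyFour Cfsg.Agent.H209.Fxy
open scoped commutatorElement

/-- A subgroup of a perfect group covering the quotient by a central subgroup. -/
theorem perf_top {C U : Type*} [Group C] [Group U] {π : C →* U} {z : C} (E : _root_.Cfsg.Agent.R01.Lifts.Ext π z) (hp : commutator C = ⊤)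
    {K : Subgroup C} (hK : K.map π = ⊤) : K = ⊤ := by
  rw [eq_top_iff, ← hp, commutator_def, Subgroup.commutator_le]
  have key : ∀ g : C, ∃ k ∈ K, ∃ w : C, g = k * w ∧ ∀ c, c * w = w * c := by
    intro g
    have h1 : π g ∈ K.map π := by rw [hK]; trivial
    obtain ⟨k, hk, hkg⟩ := h1
    rcases E.map_eq.1 hkg.symm with h2 | h2
    · exact ⟨k, hk, 1, by rw [h2, mul_one], fun c => by rw [mul_one, one_mul]⟩
    · exact ⟨k, hk, z, h2, E.comm⟩
  intro g₁ _ g₂ _
  obtain ⟨k₁, hk₁, w₁, rfl, h₁⟩ := key g₁
  obtain ⟨k₂, hk₂, w₂, rfl, h₂⟩ := key g₂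
  have h3 : ⁅k₁ * w₁, k₂ * w₂⁆ = ⁅k₁, k₂⁆ := by
    rw [commutatorElement_def, commutatorElement_def, mul_inv_rev, mul_inv_rev]
    calc k₁ * w₁ * (k₂ * w₂) * (w₁⁻¹ * k₁⁻¹) * (w₂⁻¹ * k₂⁻¹)
        = k₁ * (w₁ * (k₂ * w₂)) * (w₁⁻¹ * k₁⁻¹) * (w₂⁻¹ * k₂⁻¹) := by group
      _ = k₁ * ((k₂ * w₂) * w₁) * (w₁⁻¹ * k₁⁻¹) * (w₂⁻¹ * k₂⁻¹) := by rw [h₁]
      _ = k₁ * k₂ * (w₂ * k₁⁻¹) * (w₂⁻¹ * k₂⁻¹) := by group
      _ = k₁ * k₂ * (k₁⁻¹ * w₂) * (w₂⁻¹ * k₂⁻¹) := by rw [h₂]
      _ = k₁ * k₂ * k₁⁻¹ * k₂⁻¹ := by group
  rw [h3]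
  exact (mul_mem (mul_mem (mul_mem hk₁ hk₂) (inv_mem hk₁)) (inv_mem hk₂))

theorem psu_top {F : Type*} [Field F] [Fintype F] (hF : Fintype.card F = 2 ^ 2) {K : Subgroup (PSU 6 F 2)}
    (hK : K.index < 672) : K = ⊤ := by
  by_contra hne
  have h1 := (Cfsg.Agent.S2153.result (F := F) (by rw [hF]; norm_num) 6 (by norm_num) le_rfl).1 K hne
  norm_num at h1
  omega

/-- **`Fi22` has no proper subgroup of index `< 672`.** -/
theorem fi22_top {K : Subgroup Fi22} (hK : K.index < 672) : K = ⊤ := by
  have hfin : Finite Fi22 := Fi22Facts.finite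
  have key : ∀ d ∈ Fi22Facts.T, d ∈ K := by
    intro d hd
    obtain ⟨π, lift, L, -⟩ := Fi22Facts.loc d hd
    have h1 : K.subgroupOf (centralizer ({d} : Set Fi22)) = ⊤ := by
      apply perf_top L.ext L.perf
      apply psu_top Cfsg.Agent.Fischer.Unit22.hF
      have h2 : ((K.subgroupOf (centralizer ({d} : Set Fi22))).map π).index ∣ (K.subgroupOf (centralizer ({d} : Set Fi22))).index :=
        index_map_dvd _ L.ext.surj
      have h3 : (K.subgroupOf (centralizer ({d} : Set Fi22))).index ≤ K.index := by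
        have h4 := relIndex_le_of_le_right (H := K) (K := centralizer ({d} : Set Fi22)) (L := ⊤) le_top
          (by rw [relIndex_top_right]; exact index_ne_zero_of_finite)
        rw [relIndex_top_right] at h4
        exact h4
      have h5 := Nat.le_of_dvd (Nat.pos_of_ne_zero index_ne_zero_of_finite) h2
      omega
    exact subgroupOf_eq_top.1 h1 (mem_centralizer_singleton_iff.2 rfl)
  rw [eq_top_iff, ← PresentedGroup.closure_range_of, closure_le]
  rintro _ ⟨x, rfl⟩
  exact key _ (Fi22Facts.gen_mem x)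

/-- A simple group of order `> 9!` has no proper subgroup of index `≤ 9`. -/
theorem simple_top {S : Type*} [Group S] [Finite S] [IsSimpleGroup S] (hc : 362880 < Nat.card S) {K : Subgroup S}
    (hK : K.index ≤ 9) : K = ⊤ := by
  rcases (inferInstance : IsSimpleGroup S).eq_bot_or_eq_top_of_normal K.normalCore inferInstance with h1 | h1
  · exfalso
    rw [Subgroup.normalCore_eq_ker] at h1
    have h2 : Function.Injective (MulAction.toPermHom S (S ⧸ K)) := (MonoidHom.ker_eq_bot_iff _).1 h1
    have h3 := Nat.card_le_card_of_injective _ h2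
    rw [Nat.card_perm, ← Subgroup.index_eq_card] at h3
    have h4 := Nat.factorial_le hK
    have h5 : Nat.factorial 9 = 362880 := by decide
    omega
  · rw [eq_top_iff, ← h1]
    exact K.normalCore_le

/-- `C(a) ∩ G'` -/
def M (a : Fi24) : Subgroup Fi24 := commutator Fi24 ⊓ centralizer {a}

theorem mem_M {a x : Fi24} : x ∈ M a ↔ x ∈ _root_.commutator Fi24 ∧ x * a = a * x := by
  rw [M, mem_inf, mem_centralizer_singleton_iff]

theorem mem_C {a b x : Fi24} : x ∈ Cab a b ↔ x ∈ _root_.commutator Fi24 ∧ x * a = a * x ∧ x * b = b * x := by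
  rw [mem_Cab, ← mem_commutator_iff]

theorem M_map (g a : Fi24) : M (g * a * g⁻¹) = (M a).map (MulAut.conj g).toMonoidHom := by
  ext x
  constructor
  · intro hx
    obtain ⟨h1, h2⟩ := mem_M.1 hx
    refine ⟨g⁻¹ * x * g, mem_M.2 ⟨?_, ?_⟩, ?_⟩
    · have h3 := (inferInstance : (commutator Fi24).Normal).conj_mem x h1 g⁻¹
      rwa [inv_inv] at h3
    · calc g⁻¹ * x * g * a = g⁻¹ * (x * (g * a * g⁻¹)) * g := by group
        _ = g⁻¹ * (g * a * g⁻¹ * x) * g := by rw [h2]
        _ = a * (g⁻¹ * x * g) := by group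
    · change g * (g⁻¹ * x * g) * g⁻¹ = x
      group
  · rintro ⟨y, hy, rfl⟩
    obtain ⟨h1, h2⟩ := mem_M.1 hy
    refine mem_M.2 ⟨(inferInstance : (_root_.commutator Fi24).Normal).conj_mem y h1 g, ?_⟩
    change g * y * g⁻¹ * (g * a * g⁻¹) = g * a * g⁻¹ * (g * y * g⁻¹)
    calc g * y * g⁻¹ * (g * a * g⁻¹) = g * (y * a) * g⁻¹ := by group
      _ = g * (a * y) * g⁻¹ := by rw [h2]
      _ = _ := by group

theorem simple_M {a : Fi24} (ha : a ∈ L) : IsSimpleGroup (M a) := by
  have hs : IsSimpleGroup Fi23 := Cfsg.Agent.S1697.result.1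
  obtain ⟨g, rfl⟩ := isConj_iff.1 (show IsConj (Cfsg.Agent.Fischer.Fi24Class.gen .l) a from ha)
  have h1 : M (Cfsg.Agent.Fischer.Fi24Class.gen .l) = facts.phi.range := by
    ext x
    rw [mem_M, MonoidHom.mem_range, facts.mem_range_iff, mem_commutator_iff, and_comm]
  have e1 : Fi23 ≃* M (Cfsg.Agent.Fischer.Fi24Class.gen .l) :=
    (MonoidHom.ofInjective facts.phi_injective).trans (MulEquiv.subgroupCongr h1.symm)
  have e2 : M (Cfsg.Agent.Fischer.Fi24Class.gen .l) ≃* M (g * Cfsg.Agent.Fischer.Fi24Class.gen .l * g⁻¹) :=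
    ((MulAut.conj g).subgroupMap _).trans (MulEquiv.subgroupCongr (M_map g _).symm)
  exact (e1.trans e2).symm.isSimpleGroup

theorem Cab_le_M {a b : Fi24} : Cab a b ≤ M a := fun _ hx => mem_M.2 ⟨(mem_C.1 hx).1, (mem_C.1 hx).2.1⟩

theorem Cab_comm (a b : Fi24) : Cab a b = Cab b a := by
  ext x
  rw [mem_C, mem_C, and_comm (a := x * a = a * x)]

/-- the number of conjugates -/
theorem orb_le {G : Type*} [Group G] {H : Subgroup G} {x : G} {D : Set G} (hD : D.Finite)
    (h : ∀ g ∈ H, g * x * g⁻¹ ∈ D) : (centralizer ({x} : Set G)).relIndex H ≤ D.ncard := by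
  have := hD.to_subtype
  rw [relIndex, index_eq_card, ← Nat.card_coe_set_eq]
  refine Nat.card_le_card_of_injective
    (fun c : H ⧸ (centralizer ({x} : Set G)).subgroupOf H => Quotient.liftOn' c
      (fun g : H => (⟨(g : G) * x * (g : G)⁻¹, h g g.2⟩ : D)) ?_) ?_
  · intro g g' hg
    rw [QuotientGroup.leftRel_apply] at hg
    have h1 : ((g : G)⁻¹ * g') * x = x * ((g : G)⁻¹ * g') := mem_centralizer_singleton_iff.1 hg
    apply Subtype.ext
    change (g : G) * x * (g : G)⁻¹ = (g' : G) * x * (g' : G)⁻¹
    calc (g : G) * x * (g : G)⁻¹ = (g : G) * (x * ((g : G)⁻¹ * g')) * (g' : G)⁻¹ := by group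
      _ = (g : G) * (((g : G)⁻¹ * g') * x) * (g' : G)⁻¹ := by rw [h1]
      _ = _ := by group
  · intro c c' hcc
    induction c using QuotientGroup.induction_on with
    | H g =>
      induction c' using QuotientGroup.induction_on with
      | H g' =>
        have h1 : (g : G) * x * (g : G)⁻¹ = (g' : G) * x * (g' : G)⁻¹ := congrArg Subtype.val hcc
        apply QuotientGroup.eq.2
        change ((g⁻¹ * g' : H) : G) ∈ centralizer ({x} : Set G)
        rw [mem_centralizer_singleton_iff]
        change (g : G)⁻¹ * (g' : G) * x = x * ((g : G)⁻¹ * (g' : G))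
        calc (g : G)⁻¹ * (g' : G) * x = (g : G)⁻¹ * ((g' : G) * x * (g' : G)⁻¹) * g' := by group
          _ = (g : G)⁻¹ * ((g : G) * x * (g : G)⁻¹) * g' := by rw [h1]
          _ = _ := by group

instance : Finite Fi24 := finite_Fi24

theorem rel_ne (H K : Subgroup Fi24) : H.relIndex K ≠ 0 := index_ne_zero_of_finite

theorem relIndex_M_le {a x : Fi24} (ha : a ∈ L) (hx : x ∈ L) (hne : x ≠ a) (hc : Commute x a) :
    (Cab a x).relIndex (M a) ≤ 31671 := by
  have h1 : Cab a x = M a ⊓ centralizer {x} := by
    ext y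
    rw [mem_C, mem_inf, mem_M, mem_centralizer_singleton_iff, and_assoc]
  rw [h1, inf_relIndex_left, ← ncard_commuting ha]
  apply orb_le (Set.toFinite _)
  intro g hg
  obtain ⟨-, h2⟩ := mem_M.1 hg
  refine ⟨conj hx g, ?_, ?_⟩
  · intro h3
    apply hne
    have h4 : x = g⁻¹ * (g * x * g⁻¹) * g := by group
    rw [h4, h3, mul_assoc, ← h2, inv_mul_cancel_left]
  · have h4 : g⁻¹ * a = a * g⁻¹ := ((show Commute g a from h2).inv_left).eq
    change g * x * g⁻¹ * a = a * (g * x * g⁻¹)
    calc g * x * g⁻¹ * a = g * x * (g⁻¹ * a) := by group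
      _ = g * (x * a) * g⁻¹ := by rw [h4]; group
      _ = g * a * x * g⁻¹ := by rw [hc.eq]; group
      _ = a * (g * x * g⁻¹) := by rw [h2]; group

theorem relIndex_comm_le {a : Fi24} (ha : a ∈ L) : (M a).relIndex (_root_.commutator Fi24) ≤ 306936 := by
  rw [M, inf_relIndex_left, ← ncard_L]
  exact orb_le (Set.toFinite _) fun g _ => conj ha g

theorem card_Cab {a b : Fi24} (ha : a ∈ L) (hb : b ∈ L) (hne : a ≠ b) (hab : Commute a b) :
    Nat.card (Cab a b) = 129123503308800 := by
  obtain ⟨π, z, hz, hL⟩ := lifted ha hb hne hab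
  rw [Assembly.card_ext hL.ext, Fi22Facts.card]

/-- `|C(a,b) : C(a,b,x)|` -/
theorem le_relIndex {a b x : Fi24} (ha : a ∈ L) (hb : b ∈ L) (hne : a ≠ b) (hab : Commute a b) (hx : x ∈ L)
    (hxa : x ≠ a) (hxb : x ≠ b) (hca : Commute x a) (hcb : Commute x b) : 3510 ≤ (Cab a x).relIndex (Cab a b) := by
  obtain ⟨π, z, hz, hL⟩ := lifted ha hb hne hab
  set y : Cab a b := ⟨a * x, mul_mem_Cab ha hx hab hca hcb⟩ with hy
  have hd : π y ∈ Fi22Facts.T := hL.map y ⟨x, hx, hxa, hxb, hca, hcb, rfl⟩
  obtain ⟨π', lift, L', -⟩ := Fi22Facts.loc _ hd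
  have h1 := (centralizer ({π y} : Set Fi22)).card_mul_index
  rw [Assembly.card_centralizer Cfsg.Agent.Fischer.Unit22.hF L'.ext, Fi22Facts.card] at h1
  have h2 : (centralizer ({π y} : Set Fi22)).index = 3510 := by omega
  have h3 : ((Cab a x).subgroupOf (Cab a b)).map π ≤ centralizer ({π y} : Set Fi22) := by
    rintro _ ⟨k, hk, rfl⟩
    rw [mem_centralizer_singleton_iff, ← map_mul, ← map_mul]
    congr 1
    apply Subtype.ext
    obtain ⟨-, h4, h5⟩ := mem_C.1 (show (k : Fi24) ∈ Cab a x from hk)
    change (k : Fi24) * (a * x) = a * x * (k : Fi24)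
    rw [← mul_assoc, h4, mul_assoc, h5, mul_assoc]
  have h4 := index_map_dvd ((Cab a x).subgroupOf (Cab a b)) hL.ext.surj
  have h5 := (index_dvd_of_le h3).trans h4
  rw [h2] at h5
  have hfin : Finite (Cab a b) := Finite.of_injective _ (Cab a b).subtype_injective
  exact Nat.le_of_dvd (Nat.pos_of_ne_zero index_ne_zero_of_finite) h5

theorem exists_third {a b : Fi24} (ha : a ∈ L) (hb : b ∈ L) (hne : a ≠ b) (hab : Commute a b) :
    ∃ x ∈ L, x ≠ a ∧ x ≠ b ∧ Commute x a ∧ Commute x b := by
  obtain ⟨π, -, -, -, h, -⟩ := loc ha hb hne hab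
  obtain ⟨c, hc, h1, h2, h3, h4, -⟩ := h _ (Fi22Facts.gen_mem .a)
  exact ⟨c, hc, h1, h2, h3, h4⟩

/-- **The kill.** -/
theorem false_of {A : Subgroup Fi24} (hA : A ≤ commutator Fi24) (hbig : 729 < A.relIndex (_root_.commutator Fi24))
    (hE : ∀ a ∈ L, ∀ b ∈ L, a ≠ b → Commute a b → a * b ∈ A → A.relIndex (Cab a b) < 672)
    {a b : Fi24} (ha : a ∈ L) (hb : b ∈ L) (hne : a ≠ b) (hab : Commute a b) (habA : a * b ∈ A) : False := by
  have hC : ∀ a ∈ L, ∀ b ∈ L, a ≠ b → Commute a b → a * b ∈ A → Cab a b ≤ A := by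
    intro a ha b hb hne hab h
    obtain ⟨π, z, hz, hL⟩ := lifted ha hb hne hab
    have hfin : Finite (Cab a b) := Finite.of_injective _ (Cab a b).subtype_injective
    apply subgroupOf_eq_top.1
    apply perf_top hL.ext (perfect ha hb hne hab)
    apply fi22_top
    have h2 := index_map_dvd (A.subgroupOf (Cab a b)) hL.ext.surj
    have h3 := Nat.le_of_dvd (Nat.pos_of_ne_zero index_ne_zero_of_finite) h2
    have h4 : (A.subgroupOf (Cab a b)).index < 672 := hE a ha b hb hne hab h
    omega
  obtain ⟨x, hx, hxa, hxb, hca, hcb⟩ := exists_third ha hb hne hab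
  have h1 : Cab a b ≤ A := hC a ha b hb hne hab habA
  have h2 : a * x ∈ A := h1 (mul_mem_Cab ha hx hab hca hcb)
  have h3 : b * x ∈ A := by
    rw [Cab_comm] at h1
    exact h1 (mul_mem_Cab hb hx hab.symm hcb hca)
  have h4 : Cab a x ≤ A := hC a ha x hx hxa.symm hca.symm h2
  have h5 : Cab b x ≤ A := hC b hb x hx hxb.symm hcb.symm h3
  -- `C(a) ≤ A`
  have h6 : M a ≤ A := by
    have h7 : 3510 ≤ (Cab a x).relIndex (A ⊓ M a) := by
      refine le_trans (le_relIndex ha hb hne hab hx hxa hxb hca hcb) (relIndex_le_of_le_right (le_inf h1 Cab_le_M) ?_)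
      exact rel_ne _ _
    have h8 := relIndex_mul_relIndex (Cab a x) (A ⊓ M a) (M a) (le_inf h4 Cab_le_M) inf_le_right
    have h9 := relIndex_M_le ha hx hxa hca
    have h10 : (A ⊓ M a).relIndex (M a) ≤ 9 := by
      by_contra hcon
      push Not at hcon
      have := Nat.mul_le_mul h7 hcon
      omega
    rw [inf_relIndex_right] at h10
    have hs := simple_M ha
    have hcard : 362880 < Nat.card (M a) := by
      have := Subgroup.card_le_of_le (Cab_le_M (a := a) (b := b))
      rw [card_Cab ha hb hne hab] at this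
      omega
    have hfin : Finite (M a) := Finite.of_injective _ (M a).subtype_injective
    exact subgroupOf_eq_top.1 (simple_top hcard h10)
  -- the index of `A`
  have h7 : 3510 ≤ (M a).relIndex A := by
    have h8 : (M a).relIndex (Cab b x) = (Cab b a).relIndex (Cab b x) := by
      rw [← inf_relIndex_right, ← inf_relIndex_right (Cab b a)]
      congr 1
      ext y
      constructor
      · rintro ⟨k1, k2⟩
        exact ⟨mem_C.2 ⟨(mem_M.1 k1).1, (mem_C.1 k2).2.1, (mem_M.1 k1).2⟩, k2⟩
      · rintro ⟨k1, k2⟩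
        exact ⟨mem_M.2 ⟨(mem_C.1 k1).1, (mem_C.1 k1).2.2⟩, k2⟩
    have h9 := le_relIndex hb hx hxb.symm hcb.symm ha hne hxa.symm hab hca.symm
    rw [← h8] at h9
    exact h9.trans (relIndex_le_of_le_right h5 (rel_ne _ _))
  have h8 := relIndex_mul_relIndex (M a) A (_root_.commutator Fi24) h6 hA
  have h9 := relIndex_comm_le ha
  have h10 := Nat.mul_le_mul h7 hbig
  omega

theorem map_le (A : Subgroup Spor.Fi24') : A.map (_root_.commutator Fi24).subtype ≤ commutator Fi24 := by
  rintro _ ⟨x, -, rfl⟩
  exact x.2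

theorem map_subgroupOf (A : Subgroup Spor.Fi24') :
    (A.map (_root_.commutator Fi24).subtype).subgroupOf (commutator Fi24) = A :=
  Subgroup.comap_map_eq_self_of_injective (_root_.commutator Fi24).subtype_injective A

/-- **The case of a product of two commuting transpositions.** -/
theorem twoA {A : Subgroup Spor.Fi24'} {Γ : Subgroup (MulAut Spor.Fi24')} (h : IF A Γ) {a b : Fi24} (ha : a ∈ L)
    (hb : b ∈ L) (hne : a ≠ b) (hab : Commute a b) {t : Spor.Fi24'} (ht : (t : Fi24) = a * b) (htA : t ∈ A) : False := by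
  have hs : IsSimpleGroup Spor.Fi24' := isFi24'.1
  have hfin : Finite Spor.Fi24' := Finite.of_injective _ (_root_.commutator Fi24).subtype_injective
  have hna : ∃ a b : Spor.Fi24', a * b ≠ b * a := by
    by_contra hcon
    push Not at hcon
    have hn : A.Normal := ⟨fun n hn g => by rwa [hcon g n, mul_inv_cancel_right]⟩
    rcases hn.eq_bot_or_eq_top with h1 | h1
    · exact h.ne_bot h1
    · exact h.ne_top h1
  refine false_of (map_le A) ?_ ?_ ha hb hne hab ⟨t, htA, ht⟩
  · rw [relIndex, map_subgroupOf]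
    exact h.big
  · rintro a ha b hb hne hab ⟨t, htA, ht⟩
    have ht' : (t : Fi24) = a * b := ht
    have h2 : orderOf t = 2 := by
      apply orderOf_eq_prime
      · apply Subtype.ext
        change (t : Fi24) ^ 2 = 1
        rw [ht', pow_two]
        calc a * b * (a * b) = a * (b * a) * b := by group
          _ = (a * a) * (b * b) := by rw [← hab.eq]; group
          _ = 1 := by rw [sq ha, sq hb, mul_one]
      · intro h1
        apply hne
        have h3 : a * b = 1 := by rw [← ht', h1]; rfl
        calc a = a * (b * b) := by rw [sq hb, mul_one]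
          _ = b := by rw [← mul_assoc, h3, one_mul]
    have hle : (Cab a b).subgroupOf (_root_.commutator Fi24) ≤ centralizer ({t} : Set Spor.Fi24') := by
      intro y hy
      obtain ⟨-, h3, h4⟩ := mem_C.1 (show (y : Fi24) ∈ Cab a b from hy)
      rw [mem_centralizer_singleton_iff]
      apply Subtype.ext
      change (y : Fi24) * (t : Fi24) = t * y
      rw [ht', ← mul_assoc, h3, mul_assoc, h4, mul_assoc]
    obtain ⟨-, -, -, -, h5⟩ := H999.IFB.IF.E2' h hna htA h2
    have h6 := (h5 _ hle).1
    have h7 : A.relIndex ((Cab a b).subgroupOf (_root_.commutator Fi24)) =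
        (A.map (commutator Fi24).subtype).relIndex (Cab a b) := by
      have h8 := relIndex_subgroupOf (H := A.map (commutator Fi24).subtype) (K := Cab a b) (L := _root_.commutator Fi24)
        (Cab_le_M.trans inf_le_left)
      rw [map_subgroupOf] at h8
      exact h8
    rw [h7] at h6
    have h8 : (centralizer ({t} : Set Spor.Fi24')).index ≤ 9720970056 := by
      have h9 := Nat.le_of_dvd (Nat.pos_of_ne_zero index_ne_zero_of_finite) (index_dvd_of_le hle)
      have h10 := ((Cab a b).subgroupOf (_root_.commutator Fi24)).card_mul_index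
      have h11 : Nat.card ((Cab a b).subgroupOf (_root_.commutator Fi24)) = 129123503308800 := by
        rw [Nat.card_congr (subgroupOfEquivOfLe (Cab_le_M.trans inf_le_left)).toEquiv]
        exact card_Cab ha hb hne hab
      rw [h11, card_commutator] at h10
      omega
    by_contra hcon
    push Not at hcon
    have h9 := Nat.pow_le_pow_left hcon 5
    norm_num only [] at h9
    omega

end Cfsg.Agent.H672.IF.Fi24A
end

-- part: H546/IF/OddFi24
section
/-!
# S5719, `|A|` odd: `Fi₂₄'` (helper546)

The outer involutions are the transpositions and the products of three commuting transpositions; the orders of the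
centralisers are known (`H305.SprFi24.ct_one`, `ct_three`), `2 ^ 17` divides both.
-/

set_option autoImplicit false

namespace Cfsg.Agent.H546.IFO.FiTF

open Subgroup Cfsg Cfsg.Agent.R08 Cfsg.Agent.R08.FiTwentyFour
open Cfsg.Agent.H209.Fxy Cfsg.Agent.H383.Cube Cfsg.Agent.H305.SprFi24
open Cfsg.Agent.H833.Out24 (Tri3 outer_cases)
open Cfsg.Spor (Fi24)

theorem out_Fi24 : OutP Spor.Fi24' fun σ => 2 ^ 17 ∣ Nat.card (fix σ) := by
  intro σ ho hout
  have hfin : Finite Fi24 := finite_Fi24
  obtain ⟨g, hg⟩ := KFacts.FiTF.exists_conj σ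
  have hgo := order_eq hg Nat.prime_two ho
  have hgg : g * g = 1 := by rw [← pow_two, ← hgo, pow_orderOf_eq_one]
  have hcard : Nat.card (fix σ) = ct g := _root_.Cfsg.Agent.H305.SprFi24.card_fix hg
  rw [hcard]
  have hK : g ∉ _root_.commutator Fi24 := by
    intro hK
    refine hout ⟨g, hK⟩ (MulEquiv.ext fun x => Subtype.ext ?_)
    rw [hg]
    rfl
  rcases outer_cases hK hgg with h | ⟨a, b, c, h, rfl⟩
  · rw [ct_one h]
    norm_num
  · refine Dvd.dvd.trans ?_ (Subgroup.card_dvd_of_le (?_ : _root_.commutator Fi24 ⊓ centralizer ({a} : Set Fi24) ⊓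
      centralizer ({b} : Set Fi24) ⊓ centralizer ({c} : Set Fi24) ≤ _))
    · rw [ct_three h]
      norm_num
    · rintro x ⟨⟨⟨h0, hx1⟩, hx2⟩, hx3⟩
      refine ⟨h0, ?_⟩
      replace hx1 := mem_centralizer_singleton_iff.1 hx1
      replace hx2 := mem_centralizer_singleton_iff.1 hx2
      replace hx3 := mem_centralizer_singleton_iff.1 hx3
      refine mem_centralizer_singleton_iff.2 ?_
      calc x * (a * b * c) = (x * a) * b * c := by group
        _ = a * (x * b) * c := by rw [hx1]; group
        _ = a * b * (x * c) := by rw [hx2]; group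
        _ = a * b * c * x := by rw [hx3]; group

/-- **`Fi₂₄'`, `|A|` odd, the model.** -/
theorem killO_model : KillO Spor.Fi24' := by
  have hs : IsSimpleGroup Spor.Fi24' := simpleT
  have hfin : Finite Fi24 := finite_Fi24
  refine killO_three ?_ (k := 14) (fun σ h2 hout => (pow_dvd_pow 2 (by norm_num)).trans (out_Fi24 σ h2 hout)) ?_
  · by_contra hcon
    push Not at hcon
    have h1 : IsMulCommutative Spor.Fi24' := ⟨⟨hcon⟩⟩
    let _ : CommGroup Spor.Fi24' := { (inferInstance : Group Spor.Fi24') with mul_comm := hcon }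
    have h2 : (Nat.card Spor.Fi24').Prime := IsSimpleGroup.prime_card
    rw [cardT] at h2
    exact absurd h2 (by norm_num)
  · rw [cardT]
    norm_num

end Cfsg.Agent.H546.IFO.FiTF
end

-- part: H979/IFx/Fi24
section
/-!
# S5719: the row `Fi₂₄'` (helper979; case 2A: helper672, `|A|` odd: helper546)
-/

set_option autoImplicit false

namespace Cfsg.Agent.H979.IFx.Fi24

open Subgroup Cfsg Cfsg.Spor Cfsg.Agent.H209.Fxy
open Cfsg.Agent.R08.FiTwentyFour (L)

theorem killE_model (hna : ∃ a b : Spor.Fi24', a * b ≠ b * a) [IsSimpleGroup Spor.Fi24'] : KillE Spor.Fi24' := by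
  rintro A Γ h ⟨t, ht, ho⟩
  have hno : ∀ a ∈ L, ∀ b ∈ L, a ≠ b → Commute a b →
      ∀ t : Spor.Fi24', (t : Spor.Fi24) = a * b → t ∉ A := fun a ha b hb hne hab t ht htA =>
    H672.IF.Fi24A.twoA h ha hb hne hab ht htA
  have h1 : t * t = 1 := by rw [← pow_two, ← ho, pow_orderOf_eq_one]
  have h2 : t ≠ 1 := by
    rintro rfl
    rw [orderOf_one] at ho
    omega
  rcases R08.TetFi24C.facts.invol (t : Spor.Fi24) t.2 (congrArg Subtype.val h1) (fun h3 => h2 (Subtype.ext h3)) with
    ⟨a, ha, b, hb, hne, hab, he⟩ | ⟨a, b, c, d, hT⟩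
  · exact hno a ha b hb hne hab t he ht
  · exact Fi24B.twoB hna h hno hT ht

/-- **The row `Fi₂₄'` of S5719.** -/
theorem row_fi24 : Row fun T => Spor.IsoFi24' T := by
  rintro T _ _ hs hT ⟨e⟩ A Γ hA
  have hs' : IsSimpleGroup Spor.Fi24' := (MulEquiv.isSimpleGroup_congr e).1 hs
  have hfin : Finite Spor.Fi24' := Finite.of_equiv _ e.toEquiv
  have hna : ∃ a b : Spor.Fi24', a * b ≠ b * a := by
    by_contra hcon
    push Not at hcon
    refine hT ⟨⟨fun a b => ?_⟩⟩
    apply e.injective
    rw [map_mul, map_mul, hcon]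
  exact Kill.congr e.symm (Kill.of (killE_model hna) H546.IFO.FiTF.killO_model) A Γ hA

end Cfsg.Agent.H979.IFx.Fi24
end

-- part: H861/IF/MonA
section
/-!
# S5719, the Monster: subgroups of small index of `B`, `Co1`, `2.B` and `2^(1+24).Co1` (helper861)

* `b_index` : a proper subgroup of `B` has index at least 9945; `co_index` : a proper subgroup of `Co1` has index at least 88;
* `cover_top` : a subgroup of the double cover of `B` which contains the centre and has index at most 9944 is the group;
* `exists_q` : a subgroup of `C(z) = 2^(1+24).Co1` of index at most 356912 contains an element of type 2 of `Q`.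
-/

set_option autoImplicit false
set_option maxRecDepth 100000

namespace Cfsg.Agent.H861.IFM

open Subgroup Cfsg
open Cfsg.Agent.H940.Eng (Base)

section b

open Cfsg.Agent.H256.Sep.RowB Cfsg.Agent.H940.Eng.D

/-- the tests of the divisors `lo + 1 ≤ d ≤ lo + n` -/
def chk (lo n : ℕ) : Bool :=
  Nat.rec (motive := fun _ => Bool) true (fun d ih =>
    (Nat.blt 0 (n_b % (lo + d + 1)) || bw (n_b / (lo + d + 1))) && ih) n

theorem chk_spec {lo n d : ℕ} (h : chk lo n = true) (h1 : lo < d) (h2 : d ≤ lo + n) (hd : d ∣ n_b) :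
    bw (n_b / d) = true := by
  induction n with
  | zero => omega
  | succ n ih =>
    have h3 : ((Nat.blt 0 (n_b % (lo + n + 1)) || bw (n_b / (lo + n + 1))) && chk lo n) = true := h
    rw [Bool.and_eq_true, Bool.or_eq_true] at h3
    rcases Nat.lt_or_ge d (lo + n + 1) with h4 | h4
    · exact ih h3.2 (by omega)
    · have h5 : d = lo + n + 1 := by omega
      rw [← h5] at h3
      rcases h3.1 with h6 | h6
      · exfalso
        rw [Nat.mod_eq_zero_of_dvd hd] at h6
        exact absurd h6 (by decide)
      · exact h6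

theorem c0 : chk 1 1499 = true := by decide +kernel
theorem c1 : chk 1500 1500 = true := by decide +kernel
theorem c2 : chk 3000 1500 = true := by decide +kernel
theorem c3 : chk 4500 1500 = true := by decide +kernel
theorem c4 : chk 6000 1500 = true := by decide +kernel
theorem c5 : chk 7500 1500 = true := by decide +kernel
theorem c6 : chk 9000 944 = true := by decide +kernel

/-- a proper subgroup of `B` has index at least 9945 -/
theorem b_index (B : Base) {X : Subgroup Spor.BabyMonster} (hX : X.index ≤ 9944) : X = ⊤ := by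
  have hf := fin
  by_contra hne
  have hmul := card_mul_index X
  have hc : Nat.card Spor.BabyMonster = n_b := card
  rw [hc] at hmul
  have hpos : 0 < X.index := Nat.pos_of_ne_zero Subgroup.index_ne_zero_of_finite
  have h1 : 2 ≤ X.index := by
    by_contra h
    push Not at h
    exact hne (Subgroup.index_eq_one.1 (by omega))
  have hdiv : n_b / X.index = Nat.card X := Nat.div_eq_of_eq_mul_left hpos hmul.symm
  have hdvd : X.index ∣ n_b := ⟨Nat.card X, by rw [mul_comm]; exact hmul.symm⟩
  have h2 := bw_false B X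
  rw [← hdiv] at h2
  have h3 : bw (n_b / X.index) = true := by
    rcases Nat.lt_or_ge 1500 X.index with h | h
    · rcases Nat.lt_or_ge 3000 X.index with h | h
      · rcases Nat.lt_or_ge 4500 X.index with h | h
        · rcases Nat.lt_or_ge 6000 X.index with h | h
          · rcases Nat.lt_or_ge 7500 X.index with h | h
            · rcases Nat.lt_or_ge 9000 X.index with h | h
              · exact chk_spec c6 h (by omega) hdvd
              · exact chk_spec c5 (by omega) (by omega) hdvd
            · exact chk_spec c4 (by omega) (by omega) hdvd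
          · exact chk_spec c3 (by omega) (by omega) hdvd
        · exact chk_spec c2 (by omega) (by omega) hdvd
      · exact chk_spec c1 (by omega) (by omega) hdvd
    · exact chk_spec c0 (by omega) (by omega) hdvd
  rw [h3] at h2
  exact absurd h2 (by decide)

/-- small index in the double cover of `B` -/
theorem cover_top (B : Base) {D : Type*} [Group D] [Finite D]
    (e : D ⧸ center D ≃* Spor.BabyMonster) {X : Subgroup D} (hX : X.index ≤ 9944) (hc : center D ≤ X) : X = ⊤ := by
  have hs : Function.Surjective (e.toMonoidHom.comp (QuotientGroup.mk' (center D))) :=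
    e.surjective.comp (QuotientGroup.mk'_surjective _)
  have hk : (e.toMonoidHom.comp (QuotientGroup.mk' (center D))).ker ≤ X := by
    intro x hx
    apply hc
    have h3 : e (QuotientGroup.mk' (center D) x) = 1 := hx
    rw [EmbeddingLike.map_eq_one_iff] at h3
    exact (QuotientGroup.eq_one_iff _).1 h3
  have h3 := Subgroup.index_map_eq X hs hk
  have h4 := b_index B (X := X.map _) (by rw [h3]; exact hX)
  rw [h4, Subgroup.index_top] at h3
  exact Subgroup.index_eq_one.1 h3.symm

end b

section co

open Cfsg.Agent.H940.Eng.D Cfsg.Agent.H940.Eng Cfsg.Agent.H147.Fpr.CoOne Cfsg.Agent.H444.Fpr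
open Cfsg.Spor (Co1)

theorem co_chk (c : ℕ) (hc : c = 12 ∨ c = 24) : ∀ d < 88, 2 ≤ d → n_co1 % d = 0 →
    bad l_co1 n_co1 [] 60 (loc c) o_co1 (n_co1 / d) = true := by
  intro d hd h2 hn
  rcases hc with rfl | rfl <;>
    exact (Cfsg.Agent.H940.EngF.rng_fast (Q := fun d => Nat.ble d 1) (by decide +kernel) hd hn).resolve_left
      fun h => absurd (h2.trans (Nat.le_of_ble_eq_true h)) (by decide)

/-- a proper subgroup of `Co1` has index at least 88 -/
theorem co_index (B : Base) {X : Subgroup Co1} (hlt : X.index < 88) : X = ⊤ := by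
  by_contra hX
  have hf := fin
  have hs := simple
  have hmul := card_mul_index X
  have hc := card
  rw [hc] at hmul
  have hpos : 0 < X.index := Nat.pos_of_ne_zero Subgroup.index_ne_zero_of_finite
  have h1 : 2 ≤ X.index := by
    by_contra h
    push Not at h
    exact hX (Subgroup.index_eq_one.1 (by omega))
  have hdiv : n_co1 / X.index = Nat.card X := Nat.div_eq_of_eq_mul_left hpos hmul.symm
  have hmod : n_co1 % X.index = 0 := Nat.mod_eq_zero_of_dvd ⟨Nat.card X, by rw [mul_comm]; exact hmul.symm⟩
  have key : ∀ c, (c = 12 ∨ c = 24) → ∀ ⦃e⦄, Known Co1 13 c e → c * e = 144 → False := by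
    intro c hcc e hk hce
    have h2 := co_chk c hcc _ hlt h1 hmod
    rw [hdiv] at h2
    have C := ctx B hk hce
    have h3 := not_bad C.val C.card C.ords C.loc (full := []) (bd := 60) (H := X) (by simp only [_root_.List.not_mem_nil, _root_.Sylow.coe_coe, _root_.exists_prop, _root_.IsEmpty.forall_iff, _root_.implies_true]) hX
    rw [h3] at h2
    exact absurd h2 (by decide)
  rcases known13 with h | h
  · exact key 12 (Or.inl rfl) h (by norm_num)
  · exact key 24 (Or.inr rfl) h (by norm_num)

end co

section chart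

open Cfsg.Agent.MonsterU Cfsg.Agent.MonsterU.Ch Cfsg.Agent.MonsterU.Lam2
open Cfsg.Spor (Co1)

variable {G : Type*} [Group G] {Q : Subgroup G} {z : G} {eta : G → L2}
  {pi : Subgroup.centralizer ({z} : Set G) →* Co1}

/-- the image of `A ∩ Q` -/
def img (h : Chart Q z eta pi) (A : Subgroup G) : AddSubgroup L2 where
  carrier := {v | ∃ x ∈ A, x ∈ Q ∧ eta x = v}
  zero_mem' := ⟨1, A.one_mem, Q.one_mem, h.eta_one⟩
  add_mem' := by
    rintro _ _ ⟨x, hx, hxQ, rfl⟩ ⟨y, hy, hyQ, rfl⟩
    exact ⟨x * y, A.mul_mem hx hy, Q.mul_mem hxQ hyQ, h.eta_mul x hxQ y hyQ⟩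
  neg_mem' := by
    rintro _ ⟨x, hx, hxQ, rfl⟩
    exact ⟨x, hx, hxQ, (neg_eq _).symm⟩

theorem card_le (h : Chart Q z eta pi) [Finite G] (A : Subgroup G) :
    Nat.card (A.subgroupOf (centralizer ({z} : Set G))) ≤
      Nat.card ((A.subgroupOf (centralizer ({z} : Set G))).map pi) * (2 * Nat.card (img h A)) := by
  classical
  have hfL : Finite L2 := Nat.finite_of_card_ne_zero (by rw [card_L2]; norm_num)
  set A' := A.subgroupOf (centralizer ({z} : Set G)) with hA'
  have h1 : Nat.card A' = Nat.card (A'.map pi) * Nat.card ↥(A' ⊓ pi.ker) := by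
    have h2 := Subgroup.card_mul_index ((pi.domRestrict A').ker)
    rw [Subgroup.index_ker, MonoidHom.domRestrict_range] at h2
    rw [← h2, mul_comm]
    congr 1
    refine Nat.card_congr ⟨fun x => ⟨x.1.1, x.1.2, x.2⟩, fun x => ⟨⟨x.1, x.2.1⟩, x.2.2⟩, fun x => rfl, fun x => rfl⟩
  rw [h1]
  refine Nat.mul_le_mul_left _ ?_
  -- the fibres of `eta` have at most two elements
  have h2 : ∀ v : img h A, ∃ y : G, y ∈ A ∧ y ∈ Q ∧ eta y = v := fun v => v.2
  choose s hs using h2
  have hmem : ∀ x : ↥(A' ⊓ pi.ker), ((x : centralizer ({z} : Set G)) : G) ∈ A ∧ ((x : centralizer ({z} : Set G)) : G) ∈ Q :=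
    fun x => ⟨x.2.1, (h.pi_eq_one _).1 x.2.2⟩
  rw [← Nat.card_eq_fintype_card (α := Bool) |>.trans Fintype.card_bool, ← Nat.card_prod]
  refine Nat.card_le_card_of_injective (fun x : ↥(A' ⊓ pi.ker) =>
    (decide (((x : centralizer ({z} : Set G)) : G) = s ⟨eta ((x : centralizer ({z} : Set G)) : G), _, (hmem x).1, (hmem x).2, rfl⟩),
      (⟨eta ((x : centralizer ({z} : Set G)) : G), _, (hmem x).1, (hmem x).2, rfl⟩ : img h A))) ?_
  intro x y hxy
  rw [Prod.mk.injEq] at hxy
  obtain ⟨e1, e2⟩ := hxy
  rw [← e2, decide_eq_decide] at e1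
  set σ := s ⟨eta ((x : centralizer ({z} : Set G)) : G), _, (hmem x).1, (hmem x).2, rfl⟩ with hσ
  have e3 : eta ((x : centralizer ({z} : Set G)) : G) = eta ((y : centralizer ({z} : Set G)) : G) := congrArg Subtype.val e2
  have hs1 := hs ⟨eta ((x : centralizer ({z} : Set G)) : G), _, (hmem x).1, (hmem x).2, rfl⟩
  rw [← hσ] at hs1
  have e4 := (h.eta_eq (hmem x).2 hs1.2.1).1 hs1.2.2.symm
  have e5 := (h.eta_eq (hmem y).2 hs1.2.1).1 (by rw [hs1.2.2, ← e3])
  apply Subtype.ext
  apply Subtype.ext
  rcases e4 with e4 | e4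
  · rw [e4, e1.1 e4]
  · rcases e5 with e5 | e5
    · rw [e5, e1.2 e5]
    · rw [e4, e5]

/-- **small index in `C(z)`** -/
theorem exists_q (B : Base) (two : ∀ V : AddSubgroup L2, V.index ≤ 2 ^ 11 → ∃ v ∈ V, IsType 2 v) (h : Chart Q z eta pi)
    [Finite G] (hC : Nat.card (centralizer ({z} : Set G)) = 2 ^ 25 * 4157776806543360000) {A : Subgroup G}
    (hA : A.relIndex (centralizer ({z} : Set G)) ≤ 356912) : ∃ x ∈ A, x ∈ Q ∧ IsType 2 (eta x) := by
  have hfL : Finite L2 := Nat.finite_of_card_ne_zero (by rw [card_L2]; norm_num)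
  have hfc : Finite Co1 := H147.Fpr.CoOne.fin
  have h1 := card_le h A
  set A' := A.subgroupOf (centralizer ({z} : Set G)) with hA'
  set X := A'.map pi with hX
  set V := img h A with hV
  have h2 : A'.index ≤ 356912 := hA
  have h3 := card_mul_index A'
  have h4 := card_mul_index X
  rw [BpSpor.MBigCo.card_co1] at h4
  have h5 := AddSubgroup.card_mul_index V
  rw [card_L2] at h5
  have hpos : 0 < Nat.card A' := Nat.card_pos
  have h6 : X.index * V.index ≤ A'.index := by
    refine Nat.le_of_mul_le_mul_left (c := Nat.card A') ?_ hpos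
    calc Nat.card A' * (X.index * V.index) ≤ Nat.card X * (2 * Nat.card V) * (X.index * V.index) :=
          Nat.mul_le_mul_right _ h1
      _ = 2 * (Nat.card X * X.index) * (Nat.card V * V.index) := by ring
      _ = 2 ^ 25 * 4157776806543360000 := by rw [h4, h5]; norm_num
      _ = Nat.card A' * A'.index := by rw [h3, hC]
  have key : ∃ v ∈ V, IsType 2 v := by
    by_cases hV11 : V.index ≤ 2 ^ 11
    · exact two V hV11
    · exfalso
      push Not at hV11
      obtain ⟨j, hj1, hj2⟩ := (Nat.dvd_prime_pow Nat.prime_two).1 (show V.index ∣ 2 ^ 24 from ⟨Nat.card V, by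
        rw [mul_comm]; exact h5.symm⟩)
      have hj : 11 < j := by
        rw [hj2] at hV11
        exact (Nat.pow_lt_pow_iff_right (by norm_num)).1 hV11
      have h7 : 2 ^ 12 ≤ V.index := by
        rw [hj2]
        exact Nat.pow_le_pow_right (by norm_num) hj
      have h8 : X.index < 88 := by
        by_contra hcon
        push Not at hcon
        have := Nat.mul_le_mul hcon h7
        omega
      have h9 := co_index B h8
      have h10 : ∀ g : Co0, ∀ x ∈ V, g • x ∈ V := by
        rintro g _ ⟨x, hxA, hxQ, rfl⟩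
        have h11 : (QuotientGroup.mk g : Co1) ∈ X := by rw [h9]; trivial
        obtain ⟨c, hc, hce⟩ := h11
        have h12 := h.eta_conj c x hxQ
        rw [hce] at h12
        refine ⟨(c : G) * x * (c : G)⁻¹, A.mul_mem (A.mul_mem hc hxA) (A.inv_mem hc), ?_, h12⟩
        exact h.large.conj_mem c (mem_centralizer_singleton_iff.1 c.2) x hxQ
      rcases irreducible V h10 with h11 | h11
      · rw [h11, AddSubgroup.index_bot, card_L2] at h6
        have : 0 < X.index := Nat.pos_of_ne_zero Subgroup.index_ne_zero_of_finite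
        have h12 : 1 * 2 ^ 24 ≤ X.index * 2 ^ 24 := Nat.mul_le_mul_right _ this
        omega
      · rw [h11, AddSubgroup.index_top] at h7
        norm_num at h7
  obtain ⟨v, ⟨x, hxA, hxQ, rfl⟩, hv⟩ := key
  exact ⟨x, hxA, hxQ, hv⟩

end chart

end Cfsg.Agent.H861.IFM
end

-- part: H642/IF/LamTwo
section
/-!
# S5719, row M (helper642): large subgroups of `Λ / 2Λ` contain vectors of type 2

`exists_two` : a subgroup of index at most `2 ^ 11` contains a vector of type 2 (characters of `Λ / 2Λ` on the 98280
vectors of type 2: values `98280`, `4072`, `-24`, `-24`).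
-/

set_option autoImplicit false

namespace Cfsg.Agent.H642.IF.LamTwo

open Cfsg Cfsg.Spor
open Cfsg.Agent.H847.Co1Small (sg sg_zero sg_one sg_add zcases)
open Cfsg.Agent.H847.QTrace Cfsg.Agent.H847.QDeg
open Cfsg.Agent.MonsterU.Lam2
open Cfsg.Agent.H562.OreM.QVal Cfsg.Agent.H848.Dual
open Cfsg.Agent.ConwayFacts.NormL2 (ncard_two ncard_three ncard_four isType_f0 ne_zero_of_type)

attribute [local instance] Cfsg.Agent.H847.QTrace.fintypeL2

theorem S_two_of_three {x : L2} (hx : IsType 3 x) : S 2 x = -24 := by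
  have h1 : ∑ v ∈ Tn 2, S 3 v = ∑ w ∈ Tn 3, S 2 w := by
    unfold S
    rw [Finset.sum_comm]
    exact Finset.sum_congr rfl fun w _ => Finset.sum_congr rfl fun v _ => by rw [bf_comm]
  rw [sum_const 2 (f := S 3) (c := -2048) (fun v hv => S_three_of_two hv),
    sum_const 3 (f := S 2) (c := S 2 x) (fun v hv => S_eq 2 (Or.inr (Or.inl rfl)) hx hv), card_two, card_three] at h1
  linear_combination (-1 / 8386560 : ℂ) * h1

theorem S_two_zero : S 2 0 = 98280 := by
  unfold S
  rw [sum_const 2 (c := 1) (fun v _ => by rw [bf_zero_right, sg_zero]), card_two, mul_one]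

/-- the values are integers `≥ -24` -/
theorem S_two_int {x : L2} (hx : x ≠ 0) : ∃ k : ℤ, -24 ≤ k ∧ S 2 x = (k : ℂ) := by
  rcases type_cases x with h | h | h | h
  · exact absurd h hx
  · exact ⟨4072, by norm_num, by rw [S_two_of_two h]; norm_num⟩
  · exact ⟨-24, le_rfl, by rw [S_two_of_three h]; norm_num⟩
  · exact ⟨-24, le_rfl, by rw [S_two_of_four h]; norm_num⟩

open Classical in
/-- the elements of a subgroup -/
noncomputable def fs (W : AddSubgroup L2) : Finset L2 := Finset.univ.filter (· ∈ W)

theorem mem_fs {W : AddSubgroup L2} {x : L2} : x ∈ fs W ↔ x ∈ W := by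
  classical
  simp [fs]

theorem card_fs (W : AddSubgroup L2) : (fs W).card = Nat.card W :=
  (Nat.subtype_card (fs W) fun _ => mem_fs).symm

theorem sum_eq_zero {W : AddSubgroup L2} {v : L2} (hv : v ∉ perp W) : ∑ w ∈ fs W, sg (bf v w) = 0 := by
  have h1 : ∃ u ∈ W, bf v u ≠ 0 := by
    by_contra hcon
    push Not at hcon
    exact hv hcon
  obtain ⟨u, hu, hne⟩ := h1
  have h2 : bf v u = 1 := (zcases _).resolve_left hne
  have h3 : ∑ w ∈ fs W, sg (bf v w) = ∑ w ∈ fs W, sg (bf v (w + u)) := by
    refine Finset.sum_bij' (fun w _ => w - u) (fun w _ => w + u) (fun w hw => ?_) (fun w hw => ?_) (fun w _ => ?_)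
      (fun w _ => ?_) (fun w _ => ?_)
    · exact mem_fs.2 (W.sub_mem (mem_fs.1 hw) hu)
    · exact mem_fs.2 (W.add_mem (mem_fs.1 hw) hu)
    · exact sub_add_cancel w u
    · exact add_sub_cancel_right w u
    · rw [sub_add_cancel]
  have h4 : ∑ w ∈ fs W, sg (bf v (w + u)) = -∑ w ∈ fs W, sg (bf v w) := by
    rw [← Finset.sum_neg_distrib]
    refine Finset.sum_congr rfl fun w _ => ?_
    rw [bf_add_right, sg_add, h2, sg_one, mul_neg_one]
  rw [h4] at h3
  linear_combination (1 / 2 : ℂ) * h3

open Classical in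
/-- **A subgroup of index at most `2 ^ 11` contains a vector of type 2.** -/
theorem exists_two (V : AddSubgroup L2) (h : V.index ≤ 2 ^ 11) : ∃ v ∈ V, IsType 2 v := by
  by_contra hcon
  push Not at hcon
  set W := perp V with hW
  have hc : Nat.card W ≤ 2 ^ 11 := by
    have h1 := card_perp V
    have h2 := V.card_mul_index
    rw [card_L2, ← h1] at h2
    have h3 : 0 < Nat.card V := by
      rcases Nat.eq_zero_or_pos (Nat.card V) with h4 | h4
      · rw [h4, mul_zero] at h1
        norm_num at h1
      · exact h4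
    have h5 : V.index = Nat.card (perp V) := by
      rw [mul_comm (Nat.card (perp V))] at h2
      exact Nat.eq_of_mul_eq_mul_left h3 h2
    rw [hW, ← h5]
    exact h
  have h1 : ∑ w ∈ fs W, S 2 w = 0 := by
    unfold S
    rw [Finset.sum_comm]
    refine Finset.sum_eq_zero fun v hv => ?_
    apply sum_eq_zero
    rw [hW, perp_perp]
    exact fun h5 => hcon v h5 (mem_Tn.1 hv)
  have h2 : ∑ w ∈ fs W, S 2 w = S 2 0 + ∑ w ∈ (fs W).erase 0, S 2 w := by
    rw [Finset.add_sum_erase]
    exact mem_fs.2 W.zero_mem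
  have h3 : ∀ w ∈ (fs W).erase 0, ∃ k : ℤ, -24 ≤ k ∧ S 2 w = (k : ℂ) := fun w hw =>
    S_two_int (Finset.ne_of_mem_erase hw)
  choose! k hk1 hk2 using h3
  rw [h1, S_two_zero, Finset.sum_congr rfl hk2] at h2
  have h4 : (0 : ℤ) = 98280 + ∑ w ∈ (fs W).erase 0, k w := by exact_mod_cast h2
  have h5 : ∑ w ∈ (fs W).erase 0, (-24 : ℤ) ≤ ∑ w ∈ (fs W).erase 0, k w := Finset.sum_le_sum hk1
  rw [Finset.sum_const, Finset.card_erase_of_mem (mem_fs.2 W.zero_mem), card_fs, nsmul_eq_mul] at h5
  have h6 : ((Nat.card W - 1 : ℕ) : ℤ) ≤ 2047 := by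
    have : Nat.card W - 1 ≤ 2047 := by omega
    exact_mod_cast this
  linarith only [h4, h5, h6]

end Cfsg.Agent.H642.IF.LamTwo
end

-- part: H861/IF/Mon
section
/-!
# S5719: the Monster (helper861)

* `A` contains an involution `t` of the class `2A`: the subgroup `C_A(t)` of `C(t) = 2.B` has index at most 9944, so
  `A = C(t)`; the same holds for `u ≠ t` of the class `2A` with `tu = ut`: contradiction.
* `A` contains `z` of the class `2B`: `C_A(z)` has index at most 356912 in `C(z)`, and `A ∩ Q` contains an element of type 2.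
-/

set_option autoImplicit false
set_option maxRecDepth 100000

namespace Cfsg.Agent.H861.IFM

open Subgroup Cfsg
open Cfsg.Agent.H940.Eng (Base)
open Cfsg.Agent.H209.Fxy
open Cfsg.Agent.BpSpor.MBigModel (MG zz pi chart)
open Cfsg.Agent.MonsterU Cfsg.Agent.MonsterU.Lam2
open Cfsg.Agent.LThreeB.Row (TA)
open Cfsg.Agent.MonsterX Cfsg.Agent.LThreeMB

/-- an involution with the nonsplit double cover of `B` as centralizer -/
theorem exists_x : ∃ x : MG, orderOf x = 2 ∧ TA x ∧
    IsNonsplitDoubleCover (centralizer ({x} : Set MG)) Spor.BabyMonster := by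
  have hfin := BpSpor.MBigModel.finite
  obtain ⟨f⟩ := MonsterP.Equiv.equiv
  obtain ⟨x, hx, hc⟩ := MonsterU.Transfer.exists_cover f.symm S5534.result
  refine ⟨x, hx, ?_, hc⟩
  rcases BpSpor.MBigModel.cls hx with ⟨g, hg⟩ | h
  · exfalso
    have h1 := BpSpor.card_cent_of_conj hg
    rw [BpSpor.MBigModel.card_cent_z] at h1
    have h2 := Subgroup.card_eq_card_quotient_mul_card_subgroup (center ↥(centralizer ({x} : Set MG)))
    obtain ⟨h3, ⟨e⟩, -⟩ := hc
    rw [h3, Nat.card_congr e.toEquiv, H256.Sep.RowB.card] at h2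
    rw [h1] at h2
    exact absurd h2 (by decide +kernel)
  · exact h

theorem hna : ∃ a b : MG, a * b ≠ b * a := by
  by_contra hcon
  push Not at hcon
  have hsim := BpSpor.MBigModel.simple
  have h1 : center MG = ⊤ := by
    rw [Subgroup.eq_top_iff']
    intro x
    rw [Subgroup.mem_center_iff]
    intro g
    exact hcon g x
  rw [BpSpor.MBigModel.center_model] at h1
  exact bot_ne_top h1

theorem index_t {x : MG} (hT : TA x) : (centralizer ({x} : Set MG)).index = 97239461142009186000 := by
  have hfin := BpSpor.MBigModel.finite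
  have h1 := card_mul_index (centralizer ({x} : Set MG))
  rw [BpSpor.MBigModel.card_cent_t hT, BpSpor.MBigModel.card_M] at h1
  omega

theorem index_z : (centralizer ({zz} : Set MG)).index = 5791748068511982636944259375 := by
  have hfin := BpSpor.MBigModel.finite
  have h1 := card_mul_index (centralizer ({zz} : Set MG))
  rw [BpSpor.MBigModel.card_cent_z, BpSpor.MBigModel.card_M] at h1
  omega

/-- `C(x) ≤ A`, so `A = C(x)` -/
theorem eq_cent (B : Base) {x : MG} (hx : orderOf x = 2) (hT : TA x)
    (hc : IsNonsplitDoubleCover (centralizer ({x} : Set MG)) Spor.BabyMonster) {A : Subgroup MG}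
    {Γ : Subgroup (MulAut MG)} (h : IF A Γ) (hxA : x ∈ A) : A = centralizer ({x} : Set MG) := by
  have hfin := BpSpor.MBigModel.finite
  have hsim := BpSpor.MBigModel.simple
  obtain ⟨h2, ⟨e⟩, hns⟩ := hc
  have hxC : x ∈ centralizer ({x} : Set MG) := mem_centralizer_singleton_iff.2 rfl
  have hcen : zpowers (⟨x, hxC⟩ : centralizer ({x} : Set MG)) = center ↥(centralizer ({x} : Set MG)) := by
    refine Subgroup.eq_of_le_of_card_ge (Subgroup.zpowers_le.2 ?_) ?_
    · rw [Subgroup.mem_center_iff]
      intro y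
      exact Subtype.ext (mem_centralizer_singleton_iff.1 y.2)
    · rw [h2, Nat.card_zpowers, Subgroup.orderOf_mk, hx]
  have h3 := (H999.IFB.IF.E2' h hna hxA hx).2.2.2.2 (centralizer ({x} : Set MG)) le_rfl
  rw [index_t hT] at h3
  have h4 : (A.subgroupOf (centralizer ({x} : Set MG))).index ≤ 9944 := by
    by_contra hcon
    push Not at hcon
    have h5 : 9945 ^ 5 ≤ A.relIndex (centralizer ({x} : Set MG)) ^ 5 := Nat.pow_le_pow_left hcon 5
    have h6 := lt_of_le_of_lt h5 h3.1
    norm_num at h6
  have h5 := cover_top B e h4 (by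
    rw [← hcen, zpowers_le, mem_subgroupOf]
    exact hxA)
  have h6 : centralizer ({x} : Set MG) ≤ A := by
    intro y hy
    have : (⟨y, hy⟩ : centralizer ({x} : Set MG)) ∈ A.subgroupOf (centralizer ({x} : Set MG)) := by rw [h5]; trivial
    exact this
  have hB : IsSimpleGroup Spor.BabyMonster := H256.Sep.RowB.simple
  have h7 := (Gen.Mon.dat B).coatom_t hx hB ⟨h2, ⟨e⟩, hns⟩ (BpSpor.MBigModel.card_cent_t hT)
  rcases h7.le_iff.1 h6 with h8 | h8
  · exact absurd h8 h.ne_top
  · exact h8

theorem mem_conj {A : Subgroup MG} (g y : MG) :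
    y ∈ A.map (MulAut.conj g).toMonoidHom ↔ g⁻¹ * y * g ∈ A := by
  rw [Subgroup.mem_map_equiv, MulAut.conj_symm_apply]

/-- **no involution of the class `2A`** -/
theorem kill_ta (B : Base) {A : Subgroup MG} {Γ : Subgroup (MulAut MG)} (h : IF A Γ) {t : MG} (htA : t ∈ A)
    (hT : TA t) : False := by
  classical
  have hfin := BpSpor.MBigModel.finite
  have hsim := BpSpor.MBigModel.simple
  obtain ⟨x, hx, hTx, hc⟩ := exists_x
  -- another involution of the class commuting with `x`
  obtain ⟨u, hTu, hux, hne⟩ : ∃ u : MG, TA u ∧ u * x = x * u ∧ u ≠ x := by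
    obtain ⟨v, -, hv, -, -, -, -⟩ := Gen.MonCh.exists_pair (n := 2) (Or.inl rfl)
    obtain ⟨q, ⟨p, rfl⟩, hq⟩ := chart.eta_surj v
    have h1 : TA (KDone.K.ι p) := BpSpor.MBigModel.ta_iota (by
      rw [← KChart.eta_ι KDone.lft p, hq]; exact hv)
    obtain ⟨p', hp'⟩ : KDone.K.ι p * zz ∈ KDone.K.ι.range :=
      Subgroup.mul_mem _ ⟨p, rfl⟩ chart.large.z_mem
    have h2 : TA (KDone.K.ι p') := BpSpor.MBigModel.ta_iota (by
      rw [← KChart.eta_ι KDone.lft p', hp', chart.eta_mul _ ⟨p, rfl⟩ _ chart.large.z_mem, chart.eta_z, add_zero, hq]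
      exact hv)
    rw [hp'] at h2
    have h3 : IsConj (KDone.K.ι p) x := IsConj.trans (IsConj.symm (show IsConj _ _ from h1)) (show IsConj _ _ from hTx)
    obtain ⟨k, hk⟩ := isConj_iff.1 h3
    have hz : zz * KDone.K.ι p = KDone.K.ι p * zz := (chart.large.comm_z _ ⟨p, rfl⟩).symm
    refine ⟨k * (KDone.K.ι p * zz) * k⁻¹, ?_, ?_, ?_⟩
    · exact IsConj.trans (show IsConj _ _ from h2) (isConj_iff.2 ⟨k, rfl⟩)
    · rw [← hk]
      calc k * (KDone.K.ι p * zz) * k⁻¹ * (k * KDone.K.ι p * k⁻¹) = k * (KDone.K.ι p * (zz * KDone.K.ι p)) * k⁻¹ := by group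
        _ = k * (KDone.K.ι p * (KDone.K.ι p * zz)) * k⁻¹ := by rw [hz]
        _ = _ := by group
    · intro h4
      rw [← hk] at h4
      have h5 := mul_left_cancel (mul_right_cancel h4)
      exact chart.large.z_ne (mul_eq_left.1 h5)
  obtain ⟨g, hg⟩ := isConj_iff.1 (IsConj.trans (IsConj.symm (show IsConj _ _ from hT)) (show IsConj _ _ from hTx))
  obtain ⟨m, hm⟩ := isConj_iff.1 (IsConj.trans (IsConj.symm (show IsConj _ _ from hTu)) (show IsConj _ _ from hTx))
  have e1 := eq_cent B hx hTx hc (h.map (MulAut.conj g)) (by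
    have : g⁻¹ * x * g = t := by rw [← hg]; group
    rw [mem_conj, this]; exact htA)
  have hA1 := h.map (MulAut.conj g)
  rw [e1] at hA1
  have e2 := eq_cent B hx hTx hc (hA1.map (MulAut.conj m)) (by
    have : m⁻¹ * x * m = u := by rw [← hm]; group
    rw [mem_conj, this]; exact mem_centralizer_singleton_iff.2 hux)
  -- `C(u) = C(x)`
  have hcu : ∀ y : MG, y * x = x * y → y * u = u * y := by
    intro y hy
    have h1 : m * y * m⁻¹ ∈ (centralizer ({x} : Set MG)).map (MulAut.conj m).toMonoidHom := by
      rw [mem_conj]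
      have : m⁻¹ * (m * y * m⁻¹) * m = y := by group
      rw [this]; exact mem_centralizer_singleton_iff.2 hy
    rw [e2] at h1
    have h2 := mem_centralizer_singleton_iff.1 h1
    rw [← hm] at h2
    have h3 : m * (y * u) * m⁻¹ = m * (u * y) * m⁻¹ := by
      calc m * (y * u) * m⁻¹ = m * y * m⁻¹ * (m * u * m⁻¹) := by group
        _ = m * u * m⁻¹ * (m * y * m⁻¹) := h2
        _ = _ := by group
    exact mul_left_cancel (mul_right_cancel h3)
  obtain ⟨h2, -, -⟩ := hc
  have hxC : x ∈ centralizer ({x} : Set MG) := mem_centralizer_singleton_iff.2 rfl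
  have huC : u ∈ centralizer ({x} : Set MG) := mem_centralizer_singleton_iff.2 hux
  have hcen : zpowers (⟨x, hxC⟩ : centralizer ({x} : Set MG)) = center ↥(centralizer ({x} : Set MG)) := by
    refine Subgroup.eq_of_le_of_card_ge (Subgroup.zpowers_le.2 ?_) ?_
    · rw [Subgroup.mem_center_iff]
      intro y
      exact Subtype.ext (mem_centralizer_singleton_iff.1 y.2)
    · rw [h2, Nat.card_zpowers, Subgroup.orderOf_mk, hx]
  have h3 : (⟨u, huC⟩ : centralizer ({x} : Set MG)) ∈ center ↥(centralizer ({x} : Set MG)) := by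
    rw [Subgroup.mem_center_iff]
    intro y
    exact Subtype.ext (hcu y (mem_centralizer_singleton_iff.1 y.2))
  rw [← hcen, ← mem_powers_iff_mem_zpowers, mem_powers_iff_mem_range_orderOf, Subgroup.orderOf_mk, hx] at h3
  obtain ⟨k, hk, hk'⟩ := Finset.mem_image.1 h3
  have h4 := Finset.mem_range.1 hk
  interval_cases k
  · have h5 : (1 : MG) = u := congrArg Subtype.val hk'
    have h6 : orderOf u = 2 := H377.SporB.orderOf_t hTu
    rw [← h5, orderOf_one] at h6
    exact absurd h6 (by norm_num)
  · have h5 : x ^ 1 = u := congrArg Subtype.val hk'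
    rw [pow_one] at h5
    exact hne h5.symm

/-- **the Monster** -/
theorem kill_MG (B : Base) : Kill MG := by
  intro A Γ h
  have hfin := BpSpor.MBigModel.finite
  have hsim := BpSpor.MBigModel.simple
  obtain ⟨σ, hσ, h2, -⟩ := h.ex
  obtain ⟨a, rfl⟩ : ∃ a : MG, MulAut.conj a = σ := by
    obtain ⟨g, hg⟩ := KFacts.MonsterE.inner_model MonsterX.Instance.mGroup MonsterX.Instance.mRep MonsterX.Instance.mLat
      MonsterX.InstanceFinal.mOrbit MonsterX.Instance.mTrans σ
    exact ⟨g, hg.symm⟩
  rw [H999.IFB.orderOf_conj hna] at h2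
  have haA : a ∈ A := (h.conj a).1 hσ
  rcases BpSpor.MBigModel.cls h2 with ⟨g, hg⟩ | hT
  · have hA1 := h.map (MulAut.conj g⁻¹)
    set A₁ := A.map (MulAut.conj g⁻¹).toMonoidHom with hA₁
    have hzA : zz ∈ A₁ := by
      rw [hA₁, mem_conj, inv_inv, hg]
      exact haA
    have h3 := (H999.IFB.IF.E2' hA1 hna hzA BpSpor.MBigModel.orderOf_zz).2.2.2.2 (centralizer ({zz} : Set MG)) le_rfl
    rw [index_z] at h3
    have h4 : A₁.relIndex (centralizer ({zz} : Set MG)) ≤ 356912 := by
      by_contra hcon
      push Not at hcon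
      have h5 : 356913 ^ 5 ≤ A₁.relIndex (centralizer ({zz} : Set MG)) ^ 5 := Nat.pow_le_pow_left hcon 5
      have h6 := lt_of_le_of_lt h5 h3.1
      norm_num at h6
    obtain ⟨_, hqA, ⟨p, rfl⟩, hq⟩ := exists_q B H642.IF.LamTwo.exists_two chart BpSpor.MBigModel.card_cent_z h4
    refine kill_ta B hA1 hqA (BpSpor.MBigModel.ta_iota ?_)
    rw [← KChart.eta_ι KDone.lft p]
    exact hq
  · exact kill_ta B h haA hT

/-- **the row of the Monster** -/
theorem row_m (B : Base) : Row fun T => Spor.IsoM T := by
  rintro T _ _ _ - ⟨e⟩ A Γ hA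
  obtain ⟨f⟩ := MonsterP.Equiv.equiv
  exact Kill.congr (e.trans f).symm (kill_MG B) A Γ hA

end Cfsg.Agent.H861.IFM
end

private theorem dce_59618abaca97 : _root_.True := by
  try have : _root_.True := by simp only [_root_.Cfsg.Agent.H672.IF.Fi24A.M.eq_1]
  try have : _root_.True := by simp only [_root_.Cfsg.Agent.H642.IF.LamTwo.fs.eq_1]
  try have : _root_.True := by simp only [_root_.Cfsg.Agent.H979.IFx.Four.par.eq_1]
  try have : _root_.True := by simp only [_root_.Cfsg.Agent.H979.IFx.Four.par.eq_def]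
  try have : _root_.True := by simp only [_root_.Cfsg.Agent.H979.IFx.Four.par.eq_2]
  exact _root_.True.intro
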